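import Cfsg.Agent.Lib.FischerM22Recog.Count
import Cfsg.Agent.Lib.U62Cover.Transfer

/-!
An involution whose centraliser is the double cover of PSU₆(2) and which is not weakly closed there: the group is
a copy of Fi22 and the class is the class of 3-transpositions.
-/

set_option autoImplicit false

namespace Cfsg.Agent.FischerM22Recog

open Cfsg.Agent.FischerPresented.Mult6 (PU)
open Cfsg.Agent.FischerPresented.U62 (hgH)

universe u

local notation "G₀" => Fi22Local.GG
local notation "D₀" => FischerPresented.Fi22Class.D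

variable {G : Type u} [Group G] [Finite G] {d : G}

/-- A centraliser mapping onto PSU₆(2) with kernel generated by the involution is the presented double cover. -/
theorem exists_centred (σ : ↥(Subgroup.centralizer ({d} : Set G)) →* PU) (hs : Function.Surjective σ)
    (hd : orderOf d = 2) (hσd : ∀ x : ↥(Subgroup.centralizer ({d} : Set G)), (x : G) = d → σ x = 1)
    (hker : ∀ x, σ x = 1 → (x : G) = 1 ∨ (x : G) = d)
    (hperf : commutator ↥(Subgroup.centralizer ({d} : Set G)) = ⊤) :
    ∃ φ : ↥(Subgroup.centralizer ({d} : Set G)) ≃* FischerPresented.Fi22.H, U62Cover.Centred φ := by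
  have hd2 : d * d = 1 := by rw [← sq, ← hd, pow_orderOf_eq_one]
  have hd1 : d ≠ 1 := fun h => by rw [h, orderOf_one] at hd; norm_num at hd
  have hmem : d ∈ Subgroup.centralizer ({d} : Set G) := U62Cover.mem_cz.2 rfl
  let r : Shrink.{0} ↥(Subgroup.centralizer ({d} : Set G)) ≃* ↥(Subgroup.centralizer ({d} : Set G)) :=
    Shrink.mulEquiv
  have : Finite (Shrink.{0} ↥(Subgroup.centralizer ({d} : Set G))) := Finite.of_equiv _ r.symm.toEquiv
  obtain ⟨ψ, hψ⟩ := U62Cover.exists_iso (σ.comp r.toMonoidHom) (r.symm ⟨d, hmem⟩) (hs.comp r.surjective)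
    (r.injective (by rw [map_mul, r.apply_symm_apply, map_one]; exact Subtype.ext hd2))
    (fun h => hd1 (by simpa using congrArg (fun t => ((r t : ↥(Subgroup.centralizer ({d} : Set G))) : G)) h))
    (by rw [MonoidHom.comp_apply, MulEquiv.coe_toMonoidHom, r.apply_symm_apply]; exact hσd _ rfl)
    (fun x => r.injective (by
      rw [map_mul, map_mul, r.apply_symm_apply]
      exact Subtype.ext (U62Cover.mem_cz.1 (r x).2).symm))
    (fun x hx => (hker (r x) hx).imp (fun h => r.injective (Subtype.ext (h.trans (by rw [map_one]; rfl))))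
      (fun h => r.injective (Subtype.ext (h.trans (by rw [r.apply_symm_apply])))))
    (by rw [← Subgroup.map_top_of_surjective r.symm.toMonoidHom r.symm.surjective, ← hperf, commutator_def,
      commutator_def, Subgroup.map_commutator, Subgroup.map_top_of_surjective r.symm.toMonoidHom r.symm.surjective])
  refine ⟨r.symm.trans ψ, ?_⟩
  show ((r (ψ.symm (hgH 0)) : ↥(Subgroup.centralizer ({d} : Set G))) : G) = d
  rw [← hψ, ψ.symm_apply_apply, r.apply_symm_apply]

/-- The group is a copy of Fi22. -/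
theorem exists_mulEquiv (φ : ↥(Subgroup.centralizer ({d} : Set G)) ≃* FischerPresented.Fi22.H)
    (hφ : U62Cover.Centred φ) (hd : d * d = 1) (hd1 : d ≠ 1)
    (hnwc : ∃ g : G, g * d * g⁻¹ ∈ Subgroup.centralizer ({d} : Set G) ∧ g * d * g⁻¹ ≠ d) :
    ∃ e : G₀ ≃* G, e '' D₀ = conjugatesOf d := by
  obtain ⟨E⟩ := exists_emb φ hφ (fun x hx => fusion φ hφ hd hd1 hnwc x hx) hd hd1
  refine ⟨MulEquiv.ofBijective E.ψ ⟨E.inj, E.surjective hd hd1⟩, ?_⟩
  ext x
  refine ⟨?_, fun hx => ?_⟩
  · rintro ⟨a, ha, rfl⟩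
    exact E.conj_mem ha
  · obtain ⟨t, rfl⟩ := isConj_iff.1 (show IsConj d x from hx)
    obtain ⟨c, rfl⟩ := E.surjective hd hd1 t
    refine ⟨c * FischerPresented.Fi22Class.z * c⁻¹, FischerPresented.Fi22Class.mem_D.2 ⟨c, rfl⟩, ?_⟩
    show E.ψ _ = _
    rw [map_mul, map_mul, map_inv, E.map_z]

end Cfsg.Agent.FischerM22Recog
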