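import Cfsg.Agent.Lib.FischerM22Recog.Embed
import Cfsg.Agent.Lib.U62Cover.Space
import Cfsg.Agent.Lib.Fi22Local.TripleTransport
import Cfsg.Agent.Lib.FischerUnique.InvolutionClasses
import Cfsg.Agent.Lib.BrauerSuzuki.ZStar
import Cfsg.Agent.Lib.Solvable.Coprime

/-!
The copy of Fi22 contains the centraliser of a product of two commuting transpositions, and such a product is not
conjugate to a transposition or to a product of three.
-/

set_option autoImplicit false
set_option maxRecDepth 100000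

namespace Cfsg.Agent.FischerM22Recog

open Cfsg.Agent.Fischer.Factor (Nb)
open Cfsg.Agent.FischerUnique (z_mem D_group z_eq)
open Cfsg.Agent.FischerUnique.InvolutionClasses (Fac)
open Cfsg.Agent.U62Cover (va vt)

universe u

local notation "G₀" => Fi22Local.GG
local notation "D₀" => FischerPresented.Fi22Class.D
local notation "z₀" => FischerPresented.Fi22Class.z
local notation "cz(" d ")" => Subgroup.centralizer ({d} : Set _)

/-! ### In presented Fi22 -/

theorem va_four_z : va 4 = z₀ := by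
  have h := congrArg Subtype.val U62Cover.VA_four
  exact h.trans z_eq

theorem va_one : va 1 ∈ Nb D₀ z₀ := va_one_mem

theorem sq_D {a : G₀} (ha : a ∈ D₀) : a * a = 1 := Fischer.TSet.sq FischerPresented.Fi22Class.isClass.1 ha

theorem ne_one_D {a : G₀} (ha : a ∈ D₀) : a ≠ 1 :=
  Fischer.TSet.ne_one FischerPresented.Fi22Class.isClass.1 ha

/-- A product of the given number of distinct commuting members. -/
theorem fac_one {a : G₀} (ha : a ∈ D₀) : Fac D₀ 1 a :=
  ⟨[a], List.nodup_singleton a, rfl, by simp [ha], by simp, by simp⟩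

theorem fac_two {a b : G₀} (ha : a ∈ D₀) (hb : b ∈ D₀) (hne : a ≠ b) (hc : Commute a b) : Fac D₀ 2 (a * b) :=
  ⟨[a, b], by simp [hne], rfl, by simp [ha, hb], by simp [hc, hc.symm], by simp⟩

theorem fac_three {a b c : G₀} (ha : a ∈ D₀) (hb : b ∈ D₀) (hc : c ∈ D₀) (hab : a ≠ b) (hac : a ≠ c) (hbc : b ≠ c)
    (cab : Commute a b) (cac : Commute a c) (cbc : Commute b c) : Fac D₀ 3 (a * b * c) :=
  ⟨[a, b, c], by simp [hab, hac, hbc], rfl, by simp [ha, hb, hc],
    by simp [cab, cab.symm, cac, cac.symm, cbc, cbc.symm], by simp [mul_assoc]⟩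

theorem fac_unique {m m' : ℕ} {x : G₀} (h1 : 1 ≤ m) (h3 : m ≤ 3) (h1' : 1 ≤ m') (h3' : m' ≤ 3)
    (hx : Fac D₀ m x) (hx' : Fac D₀ m' x) : m = m' :=
  FischerUnique.InvolutionClasses.unique_length (MulEquiv.refl G₀) (by simp) h1 h3 h1' h3' hx hx'

theorem fac_conj {m : ℕ} {x y : G₀} (h1 : 1 ≤ m) (h3 : m ≤ 3) (hx : Fac D₀ m x) (hy : Fac D₀ m y) :
    IsConj x y :=
  (FischerUnique.InvolutionClasses.classes (MulEquiv.refl G₀) (by simp) m h1 h3).2 x y hx hy

/-- The shapes of an involution. -/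
theorem invol_cases {x : G₀} (hx : x * x = 1) (h1 : x ≠ 1) :
    x ∈ D₀ ∨ (∃ a b, a ∈ D₀ ∧ b ∈ D₀ ∧ a ≠ b ∧ Commute a b ∧ x = a * b) ∨ Fac D₀ 3 x := by
  have := FischerPresented.Fi22.order_facts.1
  obtain ⟨m, h1m, h3m, h⟩ := FischerUnique.InvolutionClasses.exists_fac (MulEquiv.refl G₀) (D := D₀) (by simp) x
    (orderOf_eq_prime (by rw [sq, hx]) h1)
  rcases (by omega : m = 1 ∨ m = 2 ∨ m = 3) with rfl | rfl | rfl
  · obtain ⟨l, -, hl, hD, -, hp⟩ := h
    obtain ⟨a, rfl⟩ := List.length_eq_one_iff.1 hl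
    exact Or.inl (by rw [← hp, List.prod_singleton]; exact hD a (by simp))
  · obtain ⟨l, hn, hl, hD, hc, hp⟩ := h
    obtain ⟨a, b, rfl⟩ := List.length_eq_two.1 hl
    refine Or.inr (Or.inl ⟨a, b, hD a (by simp), hD b (by simp), ?_, hc a (by simp) b (by simp), ?_⟩)
    · simpa using hn
    · simpa using hp.symm
  · exact Or.inr (Or.inr h)

theorem exists_conj_z {x : G₀} (hx : x * x = 1) (h1 : x ≠ 1) : ∃ c : G₀, Commute (c * x * c⁻¹) z₀ := by
  have key : ∀ (a y : G₀), a ∈ D₀ → Commute y a → x = y → ∃ c : G₀, Commute (c * x * c⁻¹) z₀ := by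
    intro a y ha hc e
    subst e
    obtain ⟨g, rfl⟩ := FischerPresented.Fi22Class.mem_D.1 ha
    refine ⟨g⁻¹, ?_⟩
    rw [inv_inv]
    have := (Fischer.commute_conj_iff g (g⁻¹ * x * g) z₀).1
    refine this ?_
    rwa [show g * (g⁻¹ * x * g) * g⁻¹ = x by group]
  rcases invol_cases hx h1 with h | ⟨a, b, ha, -, -, hc, rfl⟩ | ⟨l, -, hl, hD, hc, hp⟩
  · exact key x x h (Commute.refl x) rfl
  · exact key a _ ha ((Commute.refl a).mul_left hc.symm) rfl
  · obtain ⟨a, b, c, rfl⟩ := List.length_eq_three.1 hl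
    exact key a _ (hD a (by simp)) (Commute.list_prod_left _ _ fun y hy => hc y hy a (by simp)) hp.symm

/-- A product of two distinct commuting members determines them. -/
theorem pair_unique {a b p q : G₀} (ha : a ∈ D₀) (hb : b ∈ D₀) (hne : a ≠ b) (hc : Commute a b) (hp : p ∈ D₀)
    (hq : q ∈ D₀) (hne' : p ≠ q) (hc' : Commute p q) (h : p * q = a * b) : p = a ∨ p = b := by
  have := (Fi22Local.Triple.pair_statement (e := MulEquiv.refl G₀) (D := D₀) (by simp) (a * b) [p, q] [a, b]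
    ⟨by simp [hne'], rfl, by simp [hp, hq], by simp [hc', hc'.symm], by simpa using h⟩
    ⟨by simp [hne], rfl, by simp [ha, hb], by simp [hc, hc.symm], by simp⟩ p).1 (by simp)
  simpa using this

/-- A member commuting with a product of two commuting members commutes with both. -/
theorem commute_pair {a b e : G₀} (ha : a ∈ D₀) (hb : b ∈ D₀) (he : e ∈ D₀) (hne : a ≠ b) (hc : Commute a b)
    (h : Commute e (a * b)) : Commute e a ∧ Commute e b :=
  (Fischer.TSet.commute_mul_iff FischerPresented.Fi22Class.isClass.1 ha hb he hne hc).1 h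

/-- All pairs are conjugate to the standard one. -/
theorem pair_conj {a b : G₀} (ha : a ∈ D₀) (hb : b ∈ D₀) (hne : a ≠ b) (hc : Commute a b) :
    IsConj (z₀ * va 1) (a * b) :=
  fac_conj (by norm_num) (by norm_num) (fac_two z_mem va_one.1 va_one.2.1.symm va_one.2.2) (fac_two ha hb hne hc)

/-- An element exchanging the standard pair. -/
theorem exists_swap : ∃ s : G₀, s * z₀ * s⁻¹ = va 1 ∧ s * va 1 * s⁻¹ = z₀ := by
  obtain ⟨c, hc⟩ := isConj_iff.1 (fac_conj (m := 1) le_rfl (by norm_num) (fac_one z_mem) (fac_one va_one.1))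
  have hu : c⁻¹ * z₀ * c ∈ Nb D₀ z₀ := by
    have h := Fischer.Factor.nb_conj D_group c⁻¹
      (show z₀ ∈ Nb D₀ (va 1) from ⟨z_mem, va_one.2.1.symm, va_one.2.2.symm⟩)
    rwa [inv_inv, show c⁻¹ * va 1 * c = z₀ by rw [← hc]; group] at h
  obtain ⟨-, h₁, hz₁, h1⟩ := FischerPresented.Fi22Two.nb_conj hu.1 hu.2.1 hu.2.2
  obtain ⟨-, h₂, hz₂, h2⟩ := FischerPresented.Fi22Two.nb_conj va_one.1 va_one.2.1 va_one.2.2
  refine ⟨c * (h₁ * h₂⁻¹), ?_, ?_⟩
  · have hz : Commute (h₁ * h₂⁻¹) z₀ := hz₁.mul_left hz₂.inv_left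
    calc c * (h₁ * h₂⁻¹) * z₀ * (c * (h₁ * h₂⁻¹))⁻¹ = c * ((h₁ * h₂⁻¹) * z₀ * (h₁ * h₂⁻¹)⁻¹) * c⁻¹ := by group
      _ = va 1 := by rw [hz.eq, mul_inv_cancel_right, hc]
  · calc c * (h₁ * h₂⁻¹) * va 1 * (c * (h₁ * h₂⁻¹))⁻¹ =
        c * (h₁ * (h₂⁻¹ * va 1 * h₂) * h₁⁻¹) * c⁻¹ := by group
      _ = z₀ := by
        conv_lhs => arg 1; arg 2; arg 1; arg 2; rw [← h2]
        rw [show ∀ e : G₀, h₂⁻¹ * (h₂ * e * h₂⁻¹) * h₂ = e from fun e => by group, h1]
        group

/-! ### The hyperplanes of the 2^10 -/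

/-- Seven members with trivial product. -/
def rel7 : List ℕ := [0, 1, 2, 3, 4, 5, 12]

theorem rel7_ok : Nat.beq ((rel7.map vt).foldr Nat.xor 0) 0 = true := by decide +kernel

variable {G : Type u} [Group G]

variable {d : G} (E : Emb G d)

/-- The 2^10 in the group. -/
noncomputable def Emb.A : Subgroup G := U62Cover.A.map (E.ψ.comp FischerPresented.Fi22.H.subtype)

theorem Emb.mem_A {x : G} : x ∈ E.A ↔ ∃ a < 1024, x = E.ψ (va a) := by
  constructor
  · rintro ⟨y, hy, rfl⟩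
    obtain ⟨a, ha, rfl⟩ := U62Cover.mem_A.1 hy
    exact ⟨a, ha, rfl⟩
  · rintro ⟨a, ha, rfl⟩
    exact ⟨U62Cover.VA a, U62Cover.mem_A.2 ⟨a, ha, rfl⟩, rfl⟩

theorem Emb.A_comm {x y : G} (hx : x ∈ E.A) (hy : y ∈ E.A) : x * y = y * x := by
  obtain ⟨a, -, rfl⟩ := E.mem_A.1 hx
  obtain ⟨b, -, rfl⟩ := E.mem_A.1 hy
  rw [← map_mul, ← map_mul, U62Cover.va_comm]

theorem Emb.A_sq {x : G} (hx : x ∈ E.A) : x * x = 1 := by
  obtain ⟨a, -, rfl⟩ := E.mem_A.1 hx
  rw [← map_mul, U62Cover.va_sq, map_one]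

theorem Emb.card_A : Nat.card E.A = 2 ^ 10 :=
  (Subgroup.card_map_of_injective (f := E.ψ.comp FischerPresented.Fi22.H.subtype)
    (E.inj.comp Subtype.val_injective)).trans U62Cover.card_A

/-- The transpositions of the copy. -/
def Emb.P : Set G := E.ψ '' D₀

theorem Emb.A_member (i : ℕ) (hi : i < 22) : E.ψ (va (vt i)) ∈ E.P ∧ E.ψ (va (vt i)) ∈ E.A :=
  ⟨⟨_, U62Cover.T_eq hi ▸ FischerPresented.Out22.tr_mem _, rfl⟩, E.mem_A.2 ⟨_, U62Cover.vt_lt hi, rfl⟩⟩

/-- A subgroup of index at most two contains a member. -/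
theorem Emb.exists_member {B : Subgroup G} {c : G} (hc : c ∈ E.A) (hcB : c ∉ B) (hB : B ≤ E.A)
    (hcover : ∀ x ∈ E.A, x ∈ B ∨ c * x ∈ B) : ∃ x ∈ B, x ∈ E.P := by
  by_contra h
  push Not at h
  have hmul : ∀ l : List ℕ, (∀ i ∈ l, i < 22) →
      (E.ψ (va ((l.map vt).foldr Nat.xor 0)) ∈ B ↔ Even l.length) ∧ (l.map vt).foldr Nat.xor 0 < 1024 := by
    intro l
    induction l with
    | nil =>
      intro _
      refine ⟨iff_of_true ?_ (by simp), by simp⟩
      show E.ψ (va 0) ∈ B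
      rw [U62Cover.va_zero, map_one]; exact one_mem B
    | cons i l ih =>
      intro hl
      obtain ⟨ih, hlt⟩ := ih fun j hj => hl j (List.mem_cons_of_mem _ hj)
      have hi := hl i List.mem_cons_self
      refine ⟨?_, Nat.xor_lt_two_pow (n := 10) (U62Cover.vt_lt hi) hlt⟩
      obtain ⟨hP, hA⟩ := E.A_member i hi
      have hiB : E.ψ (va (vt i)) ∉ B := fun hm => h _ hm hP
      rw [List.map_cons, List.foldr_cons, List.length_cons, Nat.even_add_one]
      show E.ψ (va (vt i ^^^ _)) ∈ B ↔ _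
      rw [U62Cover.va_xor, map_mul, ← ih]
      set y := E.ψ (va ((l.map vt).foldr Nat.xor 0)) with hy
      constructor
      · intro hm hyB
        exact hiB (by simpa using mul_mem hm (inv_mem hyB))
      · intro hyB
        have h1 : c * E.ψ (va (vt i)) ∈ B := (hcover _ hA).resolve_left hiB
        have h2 : c * y ∈ B := (hcover _ (E.mem_A.2 ⟨_, hlt, rfl⟩)).resolve_left hyB
        have h3 := mul_mem h1 h2
        rwa [← mul_assoc, E.A_comm hc hA, mul_assoc (E.ψ (va (vt i))) c c, E.A_sq hc, mul_one] at h3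
  obtain ⟨h7, -⟩ := hmul rel7 (by decide)
  rw [Nat.eq_of_beq_eq_true rel7_ok, U62Cover.va_zero, map_one] at h7
  exact absurd (h7.1 (one_mem B)) (by decide)

/-! ### In the group -/

theorem Emb.range_mem {g : G} : g ∈ E.ψ.range ↔ ∃ a, E.ψ a = g := MonoidHom.mem_range

theorem Emb.conj_mem {a : G₀} (ha : a ∈ D₀) : IsConj d (E.ψ a) := by
  obtain ⟨c, rfl⟩ := FischerPresented.Fi22Class.mem_D.1 ha
  exact isConj_iff.2 ⟨E.ψ c, by rw [map_mul, map_mul, map_inv, E.map_z]⟩

theorem Emb.P_le {x : G} (hx : x ∈ E.P) : x ∈ E.ψ.range := by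
  obtain ⟨a, -, rfl⟩ := hx
  exact ⟨a, rfl⟩

theorem Emb.d_mem : d ∈ E.P := ⟨z₀, z_mem, E.map_z⟩

theorem Emb.cz_le {x : G} (hx : x ∈ E.P) {g : G} (hg : Commute g x) : g ∈ E.ψ.range := by
  obtain ⟨a, ha, rfl⟩ := hx
  obtain ⟨c, rfl⟩ := FischerPresented.Fi22Class.mem_D.1 ha
  rw [map_mul, map_mul, map_inv, E.map_z] at hg
  have h : (E.ψ c)⁻¹ * g * E.ψ c ∈ E.ψ.range := E.le_range <| Subgroup.mem_centralizer_singleton_iff.2 <|
    ((Fischer.commute_conj_iff (E.ψ c) ((E.ψ c)⁻¹ * g * E.ψ c) d).1 (by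
      rwa [show E.ψ c * ((E.ψ c)⁻¹ * g * E.ψ c) * (E.ψ c)⁻¹ = g by group])).eq
  have := mul_mem (mul_mem (show E.ψ c ∈ E.ψ.range from ⟨c, rfl⟩) h) (inv_mem ⟨c, rfl⟩)
  rwa [show E.ψ c * ((E.ψ c)⁻¹ * g * E.ψ c) * (E.ψ c)⁻¹ = g by group] at this

theorem Emb.mem_P (hd : d * d = 1) (hd1 : d ≠ 1) {x : G} (hx : x ∈ E.ψ.range) (hc : IsConj d x) : x ∈ E.P := by
  obtain ⟨a, rfl⟩ := hx
  obtain ⟨g, hg⟩ := isConj_iff.1 hc
  have ha : a * a = 1 := E.inj (by
    rw [map_mul, map_one, ← hg, show g * d * g⁻¹ * (g * d * g⁻¹) = g * (d * d) * g⁻¹ by group, hd]; group)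
  have ha1 : a ≠ 1 := fun e => hd1 (isConj_one_left.1 (by rwa [e, map_one] at hc))
  obtain ⟨c, hcz⟩ := exists_conj_z ha ha1
  have h0 := hcz.map E.ψ
  rw [E.map_z] at h0
  have h1 : E.ψ (c * a * c⁻¹) ∈ cz(d) := Subgroup.mem_centralizer_singleton_iff.2 h0.eq
  obtain ⟨v, hv, e⟩ := E.fus _ h1 (hc.trans (isConj_iff.2 ⟨E.ψ c, by rw [← map_inv, ← map_mul, ← map_mul]⟩))
  refine ⟨a, ?_, rfl⟩
  rw [show a = c⁻¹ * v * c⁻¹⁻¹ by rw [E.inj e]; group]
  exact D_group.2.1 c⁻¹ v hv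

theorem Emb.mem_of_conj_d (hd : d * d = 1) (hd1 : d ≠ 1) {g : G} (h : g * d * g⁻¹ ∈ E.ψ.range) :
    g ∈ E.ψ.range := by
  obtain ⟨a, ha, e⟩ := E.mem_P hd hd1 h (isConj_iff.2 ⟨g, rfl⟩)
  obtain ⟨c, rfl⟩ := FischerPresented.Fi22Class.mem_D.1 ha
  rw [map_mul, map_mul, map_inv, E.map_z] at e
  have h1 : Commute ((E.ψ c)⁻¹ * g) d := by
    show (E.ψ c)⁻¹ * g * d = d * ((E.ψ c)⁻¹ * g)
    calc (E.ψ c)⁻¹ * g * d = (E.ψ c)⁻¹ * (g * d * g⁻¹) * g := by group
      _ = d * ((E.ψ c)⁻¹ * g) := by rw [← e]; group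
  have := mul_mem (show E.ψ c ∈ E.ψ.range from ⟨c, rfl⟩)
    (E.le_range (Subgroup.mem_centralizer_singleton_iff.2 h1.eq))
  rwa [mul_inv_cancel_left] at this

theorem Emb.pair_not_conj (hd : d * d = 1) (hd1 : d ≠ 1) {a b : G₀} (ha : a ∈ D₀) (hb : b ∈ D₀) (hne : a ≠ b)
    (hc : Commute a b) : ¬ IsConj d (E.ψ (a * b)) := fun h => by
  obtain ⟨v, hv, e⟩ := E.mem_P hd hd1 ⟨_, rfl⟩ h
  rw [E.inj e] at hv
  exact absurd (fac_unique le_rfl (by norm_num) (by norm_num) (by norm_num) (fac_one hv) (fac_two ha hb hne hc))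
    (by norm_num)

/-- The standard pair. -/
noncomputable def Emb.u₀ : G := E.ψ (z₀ * va 1)

variable [Finite G]

/-- An odd order subgroup normalised by the 2^10 lies in the copy. -/
theorem Emb.odd_le {H : Subgroup G} (hodd : Odd (Nat.card H)) (hnorm : E.A ≤ Subgroup.normalizer (H : Set G)) :
    H ≤ E.ψ.range := by
  have key : ∀ (m : ℕ) (B : Subgroup G), B ≤ E.A → Nat.card E.A ≤ Nat.card B + m →
      H ⊓ Subgroup.centralizer (B : Set G) ≤ E.ψ.range := by
    intro m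
    induction m using Nat.strong_induction_on with
    | _ m ih =>
    intro B hB hcard
    by_cases hP : ∃ x ∈ B, x ∈ E.P
    · obtain ⟨x, hxB, hxP⟩ := hP
      exact fun g hg => E.cz_le hxP (Subgroup.mem_centralizer_iff.1 hg.2 x hxB).symm
    have hne : B ≠ E.A := fun e => hP ⟨_, e ▸ (E.A_member 0 (by norm_num)).2, (E.A_member 0 (by norm_num)).1⟩
    obtain ⟨c₁, hc1, hc1B⟩ := SetLike.exists_of_lt (lt_of_le_of_ne hB hne)
    obtain ⟨c₂, hc2, hn2, hn2'⟩ : ∃ c₂ ∈ E.A, c₂ ∉ B ∧ c₁ * c₂ ∉ B := by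
      by_contra hh
      push Not at hh
      exact hP (E.exists_member hc1 hc1B hB fun x hx => (em (x ∈ B)).imp id (hh x hx))
    let F : Subgroup G := Subgroup.closure {c₁, c₂}
    have hFA : F ≤ E.A := (Subgroup.closure_le _).2 (by rintro x (rfl | rfl); exacts [hc1, hc2])
    have hF : ∀ x ∈ F, x = 1 ∨ x = c₁ ∨ x = c₂ ∨ x = c₁ * c₂ := by
      intro x hx
      have e1 := E.A_sq hc1
      have e2 := E.A_sq hc2
      have e3 := E.A_comm hc1 hc2
      induction hx using Subgroup.closure_induction with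
      | mem y hy => rcases hy with rfl | rfl <;> simp
      | one => simp
      | mul a b _ _ ha hb =>
        have m1 : c₁ * (c₁ * c₂) = c₂ := by rw [← mul_assoc, e1, one_mul]
        have m2 : c₁ * c₂ * c₂ = c₁ := by rw [mul_assoc, e2, mul_one]
        have m3 : c₁ * c₂ * c₁ = c₂ := by rw [mul_assoc, ← e3, m1]
        have m4 : c₂ * (c₁ * c₂) = c₁ := by rw [← mul_assoc, ← e3, m2]
        have m5 : c₁ * c₂ * (c₁ * c₂) = 1 := by rw [← mul_assoc, m3, e2]
        rcases ha with ha | ha | ha | ha <;> rcases hb with hb | hb | hb | hb <;>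
          simp [ha, hb, e1, e2, e3.symm, m1, m2, m3, m4, m5]
      | inv a _ ha =>
        have i1 := inv_eq_of_mul_eq_one_right e1
        have i2 := inv_eq_of_mul_eq_one_right e2
        rcases ha with ha | ha | ha | ha <;> simp [ha, mul_inv_rev, i1, i2, e3]
    have hcoset : ∀ x ∈ F, x ≠ 1 → x ∉ B := by
      intro x hx h1
      rcases hF x hx with rfl | rfl | rfl | rfl
      exacts [absurd rfl h1, hc1B, hn2, hn2']
    haveI : IsMulCommutative F := ⟨⟨fun a b => Subtype.ext (E.A_comm (hFA a.2) (hFA b.2))⟩⟩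
    have hFc : ¬ IsCyclic F := fun hcy => by
      obtain ⟨g, hg⟩ := hcy.exists_generator
      have hg2 : (g : G) * g = 1 := E.A_sq (hFA g.2)
      have hall : ∀ y : F, (y : G) = 1 ∨ (y : G) = g := fun y => by
        obtain ⟨k, hk⟩ := Subgroup.mem_zpowers_iff.1 (hg y)
        rw [← hk, Subgroup.coe_zpow]
        rcases Int.even_or_odd' k with ⟨j, rfl | rfl⟩
        · left; rw [zpow_mul, zpow_two, hg2, one_zpow]
        · right; rw [zpow_add_one, zpow_mul, zpow_two, hg2, one_zpow, one_mul]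
      rcases hall ⟨c₁, Subgroup.subset_closure (Or.inl rfl)⟩ with e | e
      · exact hc1B (by rw [show c₁ = 1 from e]; exact one_mem B)
      rcases hall ⟨c₂, Subgroup.subset_closure (Or.inr rfl)⟩ with e' | e'
      · exact hn2 (by rw [show c₂ = 1 from e']; exact one_mem B)
      · refine hn2' ?_
        rw [show c₂ = c₁ from e'.trans e.symm, E.A_sq hc1]
        exact one_mem B
    have hAn : F ≤ Subgroup.normalizer ((H ⊓ Subgroup.centralizer (B : Set G) : Subgroup G) : Set G) := by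
      intro x hx
      have hcx : ∀ b ∈ B, x * b = b * x := fun b hb => E.A_comm (hFA hx) (hB hb)
      have hcb : ∀ b ∈ B, x⁻¹ * b * x = b := fun b hb => by rw [mul_assoc, ← hcx b hb, inv_mul_cancel_left]
      rw [Subgroup.mem_normalizer_iff]
      intro y
      have h1 := Subgroup.mem_normalizer_iff.1 (hnorm (hFA hx)) y
      simp only [Subgroup.mem_inf, Subgroup.mem_centralizer_iff]
      constructor
      · rintro ⟨hy, hyc⟩
        refine ⟨h1.1 hy, fun b hb => ?_⟩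
        calc b * (x * y * x⁻¹) = x * (x⁻¹ * b * x * y) * x⁻¹ := by group
          _ = x * (y * (x⁻¹ * b * x)) * x⁻¹ := by rw [hcb b hb, hyc b hb]
          _ = x * y * x⁻¹ * b := by group
      · rintro ⟨hy, hyc⟩
        refine ⟨h1.2 hy, fun b hb => ?_⟩
        calc b * y = x⁻¹ * ((x * b * x⁻¹) * (x * y * x⁻¹)) * x := by group
          _ = x⁻¹ * (b * (x * y * x⁻¹)) * x := by rw [hcx b hb, mul_inv_cancel_right]
          _ = x⁻¹ * (x * y * x⁻¹ * b) * x := by rw [hyc b hb]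
          _ = y * (x⁻¹ * b * x) := by group
          _ = y * b := by rw [hcb b hb]
    have hcop : (Nat.card F).Coprime (Nat.card (H ⊓ Subgroup.centralizer (B : Set G) : Subgroup G)) := by
      have h1 : Nat.card F ∣ 2 ^ 10 := E.card_A ▸ Subgroup.card_dvd_of_le hFA
      have h2 := Subgroup.card_dvd_of_le (inf_le_left : H ⊓ Subgroup.centralizer (B : Set G) ≤ H)
      exact ((Nat.Coprime.pow_left 10 (Nat.coprime_two_left.2 hodd)).coprime_dvd_left h1).coprime_dvd_right h2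
    rw [← CoprimeAct.generated_by_centralizers hFc hAn hcop]
    refine iSup₂_le fun x hx => ?_
    have hlt : Nat.card B < Nat.card ↥(B ⊔ Subgroup.zpowers x) := by
      refine lt_of_le_of_ne (Subgroup.card_le_of_le le_sup_left) fun e => hcoset x hx.1 hx.2 ?_
      rw [Subgroup.eq_of_le_of_card_ge le_sup_left e.ge]
      exact Subgroup.mem_sup_right (Subgroup.mem_zpowers x)
    have hle : B ⊔ Subgroup.zpowers x ≤ E.A := sup_le hB (Subgroup.zpowers_le.2 (hFA hx.1))
    have hAB := Subgroup.card_le_of_le hle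
    refine le_trans ?_ (ih (Nat.card E.A - Nat.card ↥(B ⊔ Subgroup.zpowers x)) (by omega) _ hle (by omega))
    rintro y ⟨⟨hy, hyB⟩, hyx⟩
    refine ⟨hy, Subgroup.mem_centralizer_iff.2 fun b hb => ?_⟩
    have hsup : B ⊔ Subgroup.zpowers x ≤ Subgroup.centralizer ({y} : Set G) :=
      sup_le (fun b hb => Subgroup.mem_centralizer_singleton_iff.2 (Subgroup.mem_centralizer_iff.1 hyB b hb))
        (Subgroup.zpowers_le.2 (Subgroup.mem_centralizer_singleton_iff.2
          (Subgroup.mem_centralizer_singleton_iff.1 hyx).symm))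
    exact Subgroup.mem_centralizer_singleton_iff.1 (hsup hb)
  intro g hg
  exact key (Nat.card E.A) ⊥ bot_le (by omega)
    ⟨hg, Subgroup.mem_centralizer_iff.2 fun b hb => by rw [Subgroup.mem_bot.1 hb, one_mul, mul_one]⟩

/-- The centraliser of the standard pair lies in the copy. -/
theorem Emb.cent_u (hd : d * d = 1) (hd1 : d ≠ 1) {k : G} (hk : Commute k E.u₀) : k ∈ E.ψ.range := by
  obtain ⟨s₀, hs1, hs2⟩ := exists_swap
  set b := E.ψ (va 1) with hb
  set u := E.u₀ with hu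
  have hab : Commute d b := E.map_z ▸ va_one.2.2.map E.ψ
  have hne : d ≠ b := fun e => va_one.2.1 (E.inj (E.map_z.trans e)).symm
  have hudb : u = d * b := by rw [hu, Emb.u₀, map_mul, E.map_z]
  have hbP : b ∈ E.P := ⟨_, va_one.1, rfl⟩
  have hsd : E.ψ s₀ * d * (E.ψ s₀)⁻¹ = b := (congrArg (fun t => E.ψ s₀ * t * (E.ψ s₀)⁻¹) E.map_z.symm).trans
    (by rw [← map_inv, ← map_mul, ← map_mul, hs1])
  have hsb : E.ψ s₀ * b * (E.ψ s₀)⁻¹ = d := by rw [hb, ← map_inv, ← map_mul, ← map_mul, hs2, E.map_z]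
  have hsu : Commute (E.ψ s₀) u := by
    refine FischerUnique.commute_of_conj_eq ?_
    rw [hudb, show E.ψ s₀ * (d * b) * (E.ψ s₀)⁻¹ = E.ψ s₀ * d * (E.ψ s₀)⁻¹ * (E.ψ s₀ * b * (E.ψ s₀)⁻¹) by group,
      hsd, hsb, hab.eq]
  set K := cz(u)
  have memK : ∀ {g : G}, g ∈ K ↔ Commute g u := fun {g} => Subgroup.mem_centralizer_singleton_iff
  have hu2 : u * u = 1 := by
    rw [hudb, mul_assoc, ← mul_assoc b, ← hab.eq, mul_assoc d b b,
      show b * b = 1 by rw [hb, ← map_mul, sq_D va_one.1, map_one], mul_one, hd]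
  have hu1 : u ≠ 1 := by
    intro e
    refine hne ?_
    rw [hudb] at e
    rw [eq_inv_of_mul_eq_one_right e, inv_eq_of_mul_eq_one_right hd]
  have hbu : b = d * u := by rw [hudb, ← mul_assoc, hd, one_mul]
  -- conjugates of the first member under the centraliser, inside the copy
  have inR : ∀ g ∈ K, g * d * g⁻¹ ∈ E.ψ.range → g * d * g⁻¹ = d ∨ g * d * g⁻¹ = b := by
    intro g hg hR
    have e : g * d * g⁻¹ * (g * b * g⁻¹) = u := by
      rw [show g * d * g⁻¹ * (g * b * g⁻¹) = g * (d * b) * g⁻¹ by group, ← hudb, (memK.1 hg).eq,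
        mul_inv_cancel_right]
    have hR' : g * b * g⁻¹ ∈ E.ψ.range := by
      rw [show g * b * g⁻¹ = (g * d * g⁻¹)⁻¹ * u by rw [← e]; group]
      exact mul_mem (inv_mem hR) ⟨_, rfl⟩
    obtain ⟨p, hp, ep⟩ := E.mem_P hd hd1 hR (isConj_iff.2 ⟨g, rfl⟩)
    obtain ⟨q, hq, eq⟩ := E.mem_P hd hd1 hR' ((E.conj_mem va_one.1).trans (isConj_iff.2 ⟨g, rfl⟩))
    have hpq : p ≠ q := fun h => hne (mul_left_cancel (mul_right_cancel (ep.symm.trans (h ▸ eq))))
    have hc : Commute p q := E.inj (by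
      rw [map_mul, map_mul, ep, eq]; exact ((Fischer.commute_conj_iff g d b).2 hab).eq)
    have hprod : p * q = z₀ * va 1 := E.inj (by rw [map_mul, ep, eq, e]; rfl)
    rcases pair_unique z_mem va_one.1 va_one.2.1.symm va_one.2.2 hp hq hpq hc hprod with h | h
    · left; rw [← ep, h, E.map_z]
    · right; rw [← ep, h]
  have commuting : ∀ g ∈ K, Commute d (g * d * g⁻¹) → g * d * g⁻¹ = d ∨ g * d * g⁻¹ = b := fun g hg hc =>
    inR g hg (E.le_range (Subgroup.mem_centralizer_singleton_iff.2 hc.eq.symm))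
  -- modulo the product
  set N : Subgroup K := (Subgroup.zpowers u).subgroupOf K with hN
  have hNmem : ∀ x : K, x ∈ N → (x : G) = 1 ∨ (x : G) = u := by
    intro x hx
    obtain ⟨j, hj⟩ := Subgroup.mem_zpowers_iff.1 (Subgroup.mem_subgroupOf.1 hx)
    rw [← hj]
    rcases Int.even_or_odd' j with ⟨i, rfl | rfl⟩
    · left; rw [zpow_mul, zpow_two, hu2, one_zpow]
    · right; rw [zpow_add_one, zpow_mul, zpow_two, hu2, one_zpow, one_mul]
  haveI : N.Normal := ⟨fun x hx g => by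
    rw [hN, Subgroup.mem_subgroupOf] at hx ⊢
    rw [Subgroup.coe_mul, Subgroup.coe_mul, Subgroup.coe_inv]
    have hgx : Commute (g : G) (x : G) := by
      obtain ⟨j, hj⟩ := Subgroup.mem_zpowers_iff.1 hx
      rw [← hj]; exact (memK.1 g.2).zpow_right j
    rwa [hgx.eq, mul_inv_cancel_right]⟩
  have hdK : d ∈ K := memK.2 (hudb ▸ (Commute.refl d).mul_right hab)
  let dK : K := ⟨d, hdK⟩
  have hdq : orderOf (dK : K ⧸ N) = 2 := by
    refine orderOf_eq_prime ?_ fun h => ?_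
    · rw [← QuotientGroup.mk_pow, show dK ^ 2 = 1 from Subtype.ext (by simp [dK, sq, hd]), QuotientGroup.mk_one]
    · rcases hNmem dK ((QuotientGroup.eq_one_iff _).1 h) with e | e
      · exact hd1 e
      · have : b = 1 := by rw [hbu, ← show d = u from e, hd]
        exact ne_one_D va_one.1 (E.inj (this.trans (map_one E.ψ).symm))
  have hiso : IsIsolated (dK : K ⧸ N) := by
    intro q hq
    induction q using QuotientGroup.induction_on with
    | _ g =>
    have h1 : (g * dK * g⁻¹ * dK)⁻¹ * (dK * (g * dK * g⁻¹)) ∈ N := by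
      rw [← QuotientGroup.eq]
      simpa [QuotientGroup.mk_mul] using hq.eq.symm
    set a' : G := (g : G) * d * (g : G)⁻¹ with ha'
    have ha2 : a' * a' = 1 := by
      rw [ha', show (g : G) * d * (g : G)⁻¹ * ((g : G) * d * (g : G)⁻¹) = g * (d * d) * (g : G)⁻¹ by group, hd]
      group
    have hfin : a' = d ∨ a' = b := by
      have ec : (((g * dK * g⁻¹ * dK)⁻¹ * (dK * (g * dK * g⁻¹)) : K) : G) = d * a' * (d * a') := by
        show (a' * d)⁻¹ * (d * a') = _
        rw [mul_inv_rev, inv_eq_of_mul_eq_one_right hd, inv_eq_of_mul_eq_one_right ha2]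
      rcases hNmem _ h1 with e | e <;> rw [ec] at e
      · refine commuting g g.2 ?_
        show d * a' = a' * d
        calc d * a' = d * a' * (d * a') * (a' * d) := by
              rw [mul_assoc (d * a'), show d * a' * (a' * d) = 1 by
                rw [mul_assoc, ← mul_assoc a', ha2, one_mul, hd], mul_one]
          _ = a' * d := by rw [e, one_mul]
      · exfalso
        have hswap : a' * b * a'⁻¹ = d := by
          have h2 : u = d * a' * (d * a') := e.symm
          rw [hbu, inv_eq_of_mul_eq_one_right ha2]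
          calc a' * (d * u) * a' = a' * (d * d) * a' * d * (a' * a') := by rw [h2]; group
            _ = d := by rw [hd, ha2, mul_one, mul_one, ha2, one_mul]
        have hR : a' * E.ψ s₀ ∈ E.ψ.range := E.cz_le E.d_mem <| by
          refine (show Commute d (a' * E.ψ s₀) from ?_).symm
          show d * (a' * E.ψ s₀) = a' * E.ψ s₀ * d
          calc d * (a' * E.ψ s₀) = a' * b * a'⁻¹ * (a' * E.ψ s₀) := by rw [hswap]
            _ = a' * (E.ψ s₀ * d * (E.ψ s₀)⁻¹) * E.ψ s₀ := by rw [hsd]; group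
            _ = a' * E.ψ s₀ * d := by group
        have ha'R : a' ∈ E.ψ.range := by
          have := mul_mem hR (inv_mem (show E.ψ s₀ ∈ E.ψ.range from ⟨_, rfl⟩))
          rwa [mul_inv_cancel_right] at this
        rcases inR g g.2 ha'R with h | h <;> rw [← ha'] at h <;> rw [h] at e
        · exact hu1 (by rw [← e, hd, one_mul])
        · exact hu1 (by rw [← e, ← hudb, hu2])
    rw [← QuotientGroup.mk_inv, ← QuotientGroup.mk_mul, ← QuotientGroup.mk_mul, QuotientGroup.eq,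
      hN, Subgroup.mem_subgroupOf]
    simp only [Subgroup.coe_mul, Subgroup.coe_inv, dK, ← ha']
    rcases hfin with h | h <;> rw [h]
    · rw [inv_mul_cancel]; exact one_mem _
    · rw [show b⁻¹ * d = u by
        rw [inv_eq_of_mul_eq_one_right (show b * b = 1 by rw [hb, ← map_mul, sq_D va_one.1, map_one]), hudb,
          hab.eq]]
      exact Subgroup.mem_zpowers u
  have hz := BrauerSuzuki.zStar (K ⧸ N) _ hdq hiso
  haveI hOn : (Cfsg.pPrimeCore 2 (K ⧸ N)).Normal := FittingCores.pPrimeCore_normal 2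
  set M : Subgroup K := (Cfsg.pPrimeCore 2 (K ⧸ N)).comap (QuotientGroup.mk' N) with hM
  haveI hMn : M.Normal := hOn.comap _
  have hNM : N ≤ M := fun x hx => by
    rw [hM, Subgroup.mem_comap, QuotientGroup.mk'_apply, (QuotientGroup.eq_one_iff x).2 hx]
    exact one_mem _
  have hOodd : Odd (Nat.card (Cfsg.pPrimeCore 2 (K ⧸ N))) := by
    have h := FittingCores.pPrimeCore_coprime (G := K ⧸ N) 2
    rwa [Nat.coprime_two_right] at h
  have hNcard : Nat.card (N.subgroupOf M) = 2 := by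
    rw [Nat.card_congr (Subgroup.subgroupOfEquivOfLe hNM).toEquiv, hN,
      Nat.card_congr (Subgroup.subgroupOfEquivOfLe (Subgroup.zpowers_le.2 (memK.2 (Commute.refl u)))).toEquiv,
      Nat.card_zpowers, orderOf_eq_prime (by rw [sq, hu2]) hu1]
  have hidx : (N.subgroupOf M).index = Nat.card (Cfsg.pPrimeCore 2 (K ⧸ N)) := by
    let f : M →* Cfsg.pPrimeCore 2 (K ⧸ N) := ((QuotientGroup.mk' N).comp M.subtype).codRestrict _ fun x => x.2
    have hf : f.ker = N.subgroupOf M := by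
      ext x
      rw [MonoidHom.mem_ker, Subgroup.mem_subgroupOf, ← QuotientGroup.eq_one_iff]
      exact Subtype.ext_iff
    have hfs : Function.Surjective f := fun ⟨y, hy⟩ => by
      obtain ⟨x, rfl⟩ := QuotientGroup.mk'_surjective N y
      exact ⟨⟨x, hy⟩, rfl⟩
    rw [← hf, Subgroup.index_ker, MonoidHom.range_eq_top.2 hfs, Subgroup.card_top]
  obtain ⟨C, hC⟩ := Subgroup.exists_right_complement'_of_coprime (N := N.subgroupOf M)
    (by rw [hNcard, hidx, Nat.coprime_two_left]; exact hOodd)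
  set H : Subgroup G := C.map (K.subtype.comp M.subtype) with hH
  have hCodd : Odd (Nat.card H) := by
    rw [hH, Subgroup.card_map_of_injective (f := K.subtype.comp M.subtype) (K.subtype_injective.comp M.subtype_injective)]
    have h := hC.card_mul
    rw [hNcard, ← (N.subgroupOf M).card_mul_index, hNcard, hidx] at h
    rwa [Nat.eq_of_mul_eq_mul_left (by norm_num : 0 < 2) h]
  have hdecomp : ∀ x : M, ∃ n ∈ N, ∃ c ∈ C, (x : K) = n * (c : K) := by
    intro x
    obtain ⟨⟨⟨n, hn⟩, ⟨c, hc⟩⟩, e⟩ := hC.2 x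
    exact ⟨n, hn, c, hc, (congrArg Subtype.val e).symm⟩
  have hodd_mem : ∀ x : K, x ∈ M → Odd (orderOf x) → (x : G) ∈ H := by
    intro x hx ho
    obtain ⟨n, hn, c, hc, e⟩ := hdecomp ⟨x, hx⟩
    rcases hNmem n hn with h | h
    · refine ⟨c, hc, ?_⟩
      show ((c : K) : G) = (x : G)
      rw [show x = n * (c : K) from e, Subgroup.coe_mul, h, one_mul]
    · exfalso
      have hcn : Commute n (c : K) := Subtype.ext (by
        rw [Subgroup.coe_mul, Subgroup.coe_mul, h]; exact (memK.1 (c : K).2).eq.symm)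
      have hp : x ^ (orderOf x * orderOf (c : K)) = 1 := by rw [pow_mul, pow_orderOf_eq_one, one_pow]
      have hoc : Odd (orderOf (c : K)) := by
        have hd' : orderOf (⟨c, hc⟩ : C) ∣ Nat.card C := orderOf_dvd_natCard _
        rw [← orderOf_injective (C.subtype) C.subtype_injective, ← orderOf_injective M.subtype M.subtype_injective] at hd'
        refine Odd.of_dvd_nat ?_ hd'
        rwa [hH, Subgroup.card_map_of_injective (f := K.subtype.comp M.subtype) (K.subtype_injective.comp M.subtype_injective)] at hCodd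
      rw [show x = n * (c : K) from e, hcn.mul_pow, mul_comm, pow_mul (c : K), pow_orderOf_eq_one, one_pow,
        mul_one] at hp
      have hp' := congrArg Subtype.val hp
      rw [Subgroup.coe_pow, h, Subgroup.coe_one, ← orderOf_dvd_iff_pow_eq_one,
        orderOf_eq_prime (by rw [sq, hu2]) hu1] at hp'
      have : Odd (orderOf (c : K) * orderOf x) := hoc.mul ho
      exact (Nat.not_even_iff_odd.2 (by rwa [← show x = n * (c : K) from e] )) (even_iff_two_dvd.2 hp')
  have hAK : E.A ≤ K := fun x hx => memK.2 (E.A_comm hx (by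
    rw [hudb]
    refine mul_mem ?_ (E.mem_A.2 ⟨1, by norm_num, rfl⟩)
    exact E.mem_A.2 ⟨4, by norm_num, by rw [va_four_z, E.map_z]⟩))
  have hnorm : E.A ≤ Subgroup.normalizer (H : Set G) := by
    intro a ha
    have hdir : ∀ a ∈ E.A, ∀ y ∈ H, a * y * a⁻¹ ∈ H := by
      rintro a ha _ ⟨c, hc, rfl⟩
      have h1 := hodd_mem (⟨a, hAK ha⟩ * (c : K) * (⟨a, hAK ha⟩ : K)⁻¹) (hMn.conj_mem _ c.2 _) (by
        rw [show orderOf (⟨a, hAK ha⟩ * (c : K) * (⟨a, hAK ha⟩ : K)⁻¹) = orderOf (c : K) from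
          orderOf_injective (MulAut.conj (⟨a, hAK ha⟩ : K)).toMonoidHom (MulAut.conj _).injective _]
        have hd' : orderOf (⟨c, hc⟩ : C) ∣ Nat.card C := orderOf_dvd_natCard _
        rw [← orderOf_injective (C.subtype) C.subtype_injective, ← orderOf_injective M.subtype M.subtype_injective] at hd'
        refine Odd.of_dvd_nat ?_ hd'
        rwa [hH, Subgroup.card_map_of_injective (f := K.subtype.comp M.subtype) (K.subtype_injective.comp M.subtype_injective)] at hCodd)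
      simpa using h1
    rw [Subgroup.mem_normalizer_iff]
    refine fun y => ⟨hdir a ha y, fun h => ?_⟩
    have := hdir a⁻¹ (inv_mem ha) _ h
    rwa [inv_inv, show a⁻¹ * (a * y * a⁻¹) * a = y by group] at this
  have hHR : H ≤ E.ψ.range := E.odd_le hCodd hnorm
  have hkK : k ∈ K := memK.2 hk
  have hm : (⟨k, hkK⟩ : K) * dK * (⟨k, hkK⟩ : K)⁻¹ * dK⁻¹ ∈ M := by
    rw [hM, Subgroup.mem_comap]
    simpa [map_mul, map_inv] using hz (QuotientGroup.mk (⟨k, hkK⟩ : K))
  obtain ⟨n, hn, c, hc, e⟩ := hdecomp ⟨_, hm⟩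
  have hmem : k * d * k⁻¹ ∈ E.ψ.range := by
    have e' := congrArg Subtype.val e
    simp only [Subgroup.coe_mul, Subgroup.coe_inv, dK] at e'
    rw [show k * d * k⁻¹ = k * d * k⁻¹ * d⁻¹ * d by group, e']
    refine mul_mem (mul_mem ?_ (hHR ⟨c, hc, rfl⟩)) (E.P_le E.d_mem)
    rcases hNmem n hn with h | h <;> rw [h]
    · exact one_mem _
    · exact ⟨_, rfl⟩
  rcases inR k hkK hmem with h | h
  · refine E.cz_le E.d_mem ?_
    show k * d = d * k
    calc k * d = k * d * k⁻¹ * k := by group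
      _ = d * k := by rw [h]
  · have h1 : (E.ψ s₀)⁻¹ * k ∈ E.ψ.range := by
      refine E.cz_le E.d_mem ?_
      show (E.ψ s₀)⁻¹ * k * d = d * ((E.ψ s₀)⁻¹ * k)
      calc (E.ψ s₀)⁻¹ * k * d = (E.ψ s₀)⁻¹ * (k * d * k⁻¹) * k := by group
        _ = d * ((E.ψ s₀)⁻¹ * k) := by rw [h, ← hsd]; group
    have := mul_mem (show E.ψ s₀ ∈ E.ψ.range from ⟨_, rfl⟩) h1
    rwa [mul_inv_cancel_left] at this

/-- A pair is not conjugate to a triple. -/
theorem Emb.pair_triple (hd : d * d = 1) (hd1 : d ≠ 1) {a b c : G₀} (ha : a ∈ D₀) (hb : b ∈ D₀) (hc : c ∈ D₀)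
    (hab : a ≠ b) (hac : a ≠ c) (hbc : b ≠ c) (cab : Commute a b) (cac : Commute a c) (cbc : Commute b c) :
    ¬ IsConj E.u₀ (E.ψ (a * b * c)) := by
  intro h
  obtain ⟨g, hg⟩ := isConj_iff.1 h
  -- the conjugated pair commutes with a member, hence lies in the copy
  have hcom : Commute (g⁻¹ * E.ψ a * g) E.u₀ := by
    refine (Fischer.commute_conj_iff g _ _).1 ?_
    rw [hg, show g * (g⁻¹ * E.ψ a * g) * g⁻¹ = E.ψ a by group]
    exact (((Commute.refl a).mul_right cab).mul_right cac).map E.ψ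
  obtain ⟨v, hv, ev⟩ := E.mem_P hd hd1 (E.cent_u hd hd1 hcom)
    ((E.conj_mem ha).trans (isConj_iff.2 ⟨g⁻¹, by rw [inv_inv]⟩))
  have hvu : Commute v (z₀ * va 1) := E.inj (by
    rw [map_mul, map_mul E.ψ _ v, ev]; exact hcom.eq)
  obtain ⟨h1, h2⟩ := commute_pair z_mem va_one.1 hv va_one.2.1.symm va_one.2.2 hvu
  have hfix : ∀ {y : G₀}, Commute v y → g * E.ψ y * g⁻¹ ∈ E.ψ.range := by
    intro y hy
    refine E.cz_le (x := E.ψ a) ⟨a, ha, rfl⟩ ?_
    have h3 := (Fischer.commute_conj_iff g (E.ψ y) (E.ψ v)).2 (hy.symm.map E.ψ)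
    rwa [ev, show g * (g⁻¹ * E.ψ a * g) * g⁻¹ = E.ψ a by group] at h3
  obtain ⟨p, hp, ep⟩ := E.mem_P hd hd1 (hfix h1) ((E.conj_mem z_mem).trans (isConj_iff.2 ⟨g, rfl⟩))
  obtain ⟨q, hq, eq⟩ := E.mem_P hd hd1 (hfix h2) ((E.conj_mem va_one.1).trans (isConj_iff.2 ⟨g, rfl⟩))
  have hpq : p ≠ q := fun e => va_one.2.1 (E.inj (mul_left_cancel (mul_right_cancel
    (ep.symm.trans (e ▸ eq))))).symm
  have hcpq : Commute p q := E.inj (by
    rw [map_mul, map_mul, ep, eq]; exact ((Fischer.commute_conj_iff g _ _).2 (va_one.2.2.map E.ψ)).eq)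
  have e : p * q = a * b * c := E.inj (by
    rw [map_mul, ep, eq, ← hg, show E.u₀ = E.ψ z₀ * E.ψ (va 1) from map_mul _ _ _]; group)
  exact absurd (fac_unique (by norm_num) (by norm_num) (by norm_num) le_rfl (fac_two hp hq hpq hcpq)
    (e ▸ fac_three ha hb hc hab hac hbc cab cac cbc)) (by norm_num)

end Cfsg.Agent.FischerM22Recog
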