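import Cfsg.Agent.Lib.U62Cover.Fusion
import Cfsg.Agent.Lib.FischerUnique.Presented

/-!
An involution whose centraliser is the point stabiliser of Fi22 and which is not weakly closed there is conjugate
exactly to the transpositions of that stabiliser.
-/

set_option autoImplicit false
set_option maxRecDepth 100000

namespace Cfsg.Agent.FischerM22Recog

open Cfsg.Agent.CosetCert (Setup)
open Cfsg.Agent.CosetData
open Cfsg.Agent.FischerPresented
open Cfsg.Agent.FischerPresented.U62 (hgH)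
open Cfsg.Agent.U62Cover
open Cfsg.Agent.Fischer.Factor (Nb)

local notation "G₀" => Setup.G Fi22B.setup

local notation "cz(" d ")" => Subgroup.centralizer ({d} : Set _)

theorem size22 : ((List.range 32).all fun S =>
    !(Nat.beq ((List.range 1024).filter fun z => Nat.testBit (2 * S + 1) (code z)).length 22) ||
      Nat.beq (2 * S + 1) 3 || Nat.beq (2 * S + 1) 5) = true := by decide +kernel

/-- The marked vectors of the second possible kind. -/
noncomputable def mk5 (a : ℕ) : Bool := Nat.testBit 5 (code a)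

/-- The marked vectors, listed. -/
noncomputable def list5 : List ℕ := (List.range 1024).filter mk5

theorem no_four : (list5.all fun a => list5.all fun b => list5.all fun c =>
    !(mk5 (Nat.xor (Nat.xor a b) (Nat.xor c 4)))) = true := by decide +kernel

theorem some_four : (mk5 5 && list5.any fun a => list5.any fun b => list5.any fun c =>
    mk5 (Nat.xor (Nat.xor a b) (Nat.xor c 5))) = true := by decide +kernel

theorem fix_D {x : G₀} (hx : x ∈ Fi22Class.D) : Fi22Two.fix x = 694 := by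
  obtain ⟨g, rfl⟩ := Fi22Class.mem_D.1 hx
  rw [← Fi22Two.fix_conj (isConj_iff.2 ⟨g, rfl⟩ : IsConj Fi22Class.z _)]
  have h : Fi22Two.fix ((VA 4 : Fi22.H) : G₀) = 694 := congrArg Prod.fst (inv2_rep (show 0 ≤ 5 by norm_num))
  rw [VA_four, FischerUnique.z_eq] at h
  exact h

theorem va_one_mem : ((VA 1 : Fi22.H) : G₀) ∈ Nb Fi22Class.D Fi22Class.z := by
  have e : va 1 = Out22.tr (qp 3) := (T_eq (show 3 < 22 by norm_num)).symm
  have e4 : ((VA 4 : Fi22.H) : G₀) = Fi22Class.z := by rw [VA_four]; exact FischerUnique.z_eq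
  refine ⟨?_, fun h => ?_, ?_⟩
  · show va 1 ∈ _
    rw [e]
    exact Out22.tr_mem _
  · rw [← e4] at h
    exact absurd (VA_inj (by norm_num) (by norm_num) (Subtype.ext h)) (by norm_num)
  · rw [← e4]
    exact congrArg Subtype.val (VA_comm 4 1)

theorem cls_one_iff {x : Fi22.H} : Cls 1 x ↔ (x : G₀) ∈ Nb Fi22Class.D Fi22Class.z := by
  constructor
  · intro h
    obtain ⟨e, rfl⟩ := isConj_iff.1 h
    have := Fischer.Factor.nb_conj FischerUnique.D_group (e : G₀) va_one_mem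
    rwa [show (e : G₀) * Fi22Class.z * (e : G₀)⁻¹ = Fi22Class.z by
      rw [← Fi22Class.z_comm e e.2, mul_inv_cancel_right]] at this
  · rintro ⟨hD, hne, -⟩
    have hsq : x * x = 1 := Subtype.ext (Fischer.TSet.sq Fi22Class.isClass.1 hD)
    have h1 : x ≠ 1 := fun e => Fischer.TSet.ne_one Fi22Class.isClass.1 hD (by rw [e]; rfl)
    obtain ⟨c, hc1, hc5, hc⟩ := exists_cls hsq h1 fun e => hne (by rw [e]; exact FischerUnique.z_eq)
    have h := congrArg Prod.fst (inv2_conj hc)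
    rw [inv2_rep hc5, inv2, fix_D hD] at h
    interval_cases c <;> first | exact hc | simp [invs] at h

universe u

variable {G : Type u} [Group G] [Finite G] {d : G} (φ : ↥(cz(d)) ≃* Fi22.H)

/-- The conjugates of the involution in its centraliser. -/
theorem fusion (hφ : Centred φ) (hd : d * d = 1) (hd1 : d ≠ 1)
    (hnwc : ∃ g : G, g * d * g⁻¹ ∈ cz(d) ∧ g * d * g⁻¹ ≠ d) (x : G) (hx : x ∈ cz(d)) :
    IsConj d x ↔ x = d ∨ ((φ ⟨x, hx⟩ : Fi22.H) : G₀) ∈ Nb Fi22Class.D Fi22Class.z := by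
  classical
  let P : ℕ → Prop := fun c => ∃ a < 1024, a ≠ 0 ∧ code a = c ∧ IsConj d (vg φ a)
  obtain ⟨S, hS, hbit⟩ := exists_bits P 6
  have hmem : ∀ a < 1024, (IsConj d (vg φ a) ↔ Nat.testBit S (code a) = true) := by
    intro a ha
    by_cases h0 : a = 0
    · subst h0
      rw [vg_zero, code_zero.1, Nat.testBit_lt_two_pow (hS.trans (by norm_num : (2 : ℕ) ^ 6 < 2 ^ 7))]
      simp [isConj_one_left, hd1]
    obtain ⟨h5, hc⟩ := (code_spec ha).resolve_right h0
    rw [hbit _ (by omega)]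
    refine ⟨fun h => ⟨a, ha, h0, rfl, h⟩, ?_⟩
    rintro ⟨b, hb, hb0, e, h⟩
    obtain ⟨-, hcb⟩ := (code_spec hb).resolve_right hb0
    exact h.trans (isConj_of_cls φ (e ▸ hcb) hc)
  have hS0 : Nat.testBit S 0 = true := code_zero.2 ▸ (hmem 4 (by norm_num)).1 (by rw [vg_four φ hφ])
  have hodd : S % 2 = 1 := by simpa [Nat.testBit_zero] using hS0
  obtain ⟨-, -, hK⟩ := main φ hφ hd hd1 hnwc
  have hAe : Cfsg.IsElementaryAbelian 2 (AG φ) := by
    refine ⟨⟨⟨fun a b => Subtype.ext ?_⟩⟩, fun a ha => ?_⟩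
    · obtain ⟨i, -, ea⟩ := (mem_AG φ).1 a.2
      obtain ⟨j, -, eb⟩ := (mem_AG φ).1 b.2
      rw [Subgroup.coe_mul, Subgroup.coe_mul, ea, eb, vg_comm]
    · obtain ⟨i, -, rfl⟩ := (mem_AG φ).1 ha
      rw [sq, vg_sq]
  have hAle : AG φ ≤ cz(d) := fun a ha => by
    obtain ⟨i, -, rfl⟩ := (mem_AG φ).1 ha
    exact (φ.symm (VA i)).2
  obtain ⟨h22, -⟩ := hK (AG φ) hAle hAe (card_AG φ)
  have hlen : ((List.range 1024).filter fun z => Nat.testBit S (code z)).length = 22 := by
    rw [count_filter, ← h22, show {a : G | a ∈ AG φ ∧ IsConj d a} =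
      vg φ '' {z : ℕ | z < 1024 ∧ Nat.testBit S (code z) = true} from ?_]
    · exact (Set.ncard_image_of_injOn fun a ha b hb h => vg_inj φ ha.1 hb.1 h).symm
    ext a
    constructor
    · rintro ⟨ha, hc⟩
      obtain ⟨i, hi, rfl⟩ := (mem_AG φ).1 ha
      exact ⟨i, ⟨hi, (hmem i hi).1 hc⟩, rfl⟩
    · rintro ⟨i, ⟨hi, h⟩, rfl⟩
      exact ⟨(mem_AG φ).2 ⟨i, hi, rfl⟩, (hmem i hi).2 h⟩
  have h3 : S = 3 := by
    have h := List.all_eq_true.1 size22 (S / 2) (List.mem_range.2 (by omega))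
    rw [show 2 * (S / 2) + 1 = S by omega, hlen] at h
    simp only [Nat.beq_refl, Bool.not_true, Bool.false_or, Bool.or_eq_true, Nat.beq_eq] at h
    rcases h with h | h
    · exact h
    exfalso
    subst h
    have h4 := some_four
    simp only [list5, mk5, Bool.and_eq_true, List.any_eq_true, List.mem_filter, List.mem_range] at h4
    obtain ⟨h5, a, ⟨ha, ma⟩, b, ⟨hb, mb⟩, c, ⟨hc, mc⟩, mabc⟩ := h4
    obtain ⟨n, hnN, hn⟩ := exists_norm φ ((hmem 5 (by norm_num)).2 h5)
    have hn' : n⁻¹ ∈ NG φ := inv_mem hnN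
    have hback : ∀ i < 1024, Nat.testBit 5 (code i) = true →
        ∃ j ∈ list5, n⁻¹ * vg φ i * n⁻¹⁻¹ = vg φ j := fun i hi mi => by
      obtain ⟨j, hj, ej⟩ := NG_move φ hn' hi
      refine ⟨j, List.mem_filter.2 ⟨List.mem_range.2 hj, (hmem j hj).1 ?_⟩, ej⟩
      rw [← ej]
      exact ((hmem i hi).2 mi).trans (isConj_iff.2 ⟨n⁻¹, rfl⟩)
    have hxlt : Nat.xor (Nat.xor a b) (Nat.xor c 5) < 1024 :=
      Nat.xor_lt_two_pow (n := 10) (Nat.xor_lt_two_pow (n := 10) ha hb)
        (Nat.xor_lt_two_pow (n := 10) hc (by norm_num))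
    obtain ⟨a', la, ea⟩ := hback a ha ma
    obtain ⟨b', lb, eb⟩ := hback b hb mb
    obtain ⟨c', lc, ec⟩ := hback c hc mc
    obtain ⟨e', le, ee⟩ := hback _ hxlt mabc
    have hlt : ∀ {i}, i ∈ list5 → i < 1024 := fun h => List.mem_range.1 (List.mem_filter.1 h).1
    have hxe : Nat.xor (Nat.xor a' b') (Nat.xor c' 4) = e' := by
      refine vg_inj φ (Nat.xor_lt_two_pow (n := 10) (Nat.xor_lt_two_pow (n := 10) (hlt la) (hlt lb))
        (Nat.xor_lt_two_pow (n := 10) (hlt lc) (by norm_num))) (hlt le) ?_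
      show vg φ ((a' ^^^ b') ^^^ (c' ^^^ 4)) = _
      rw [← ee, vg_xor, vg_xor, vg_xor, vg_four φ hφ, ← ea, ← eb, ← ec,
        show Nat.xor (Nat.xor a b) (Nat.xor c 5) = ((a ^^^ b) ^^^ (c ^^^ 5)) from rfl, vg_xor, vg_xor, vg_xor,
        ← hn]
      group
    have h := no_four
    simp only [List.all_eq_true] at h
    have h := h a' la b' lb c' lc
    rw [hxe, Bool.not_eq_true'] at h
    exact Bool.noConfusion (h.symm.trans (List.mem_filter.1 le).2)
  subst h3
  by_cases hxd : x = d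
  · exact ⟨fun _ => Or.inl hxd, fun _ => hxd ▸ IsConj.refl _⟩
  rw [or_iff_right hxd]
  have h13 : ∀ c, 1 ≤ c → c ≤ 5 → (Nat.testBit 3 c = true ↔ c = 1) := by decide
  have hback : ((φ.symm (φ ⟨x, hx⟩) : ↥(cz(d))) : G) = x := by rw [φ.symm_apply_apply]
  constructor
  · intro hconj
    have hx2 : x * x = 1 := by
      obtain ⟨g, rfl⟩ := isConj_iff.1 hconj
      rw [show g * d * g⁻¹ * (g * d * g⁻¹) = g * (d * d) * g⁻¹ by group, hd]; group
    have hx1 : x ≠ 1 := fun e => hd1 (isConj_one_left.1 (e ▸ hconj))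
    obtain ⟨c, hc1, hc5, hc⟩ := exists_cls (x := φ ⟨x, hx⟩)
      (by rw [← map_mul, show (⟨x, hx⟩ : ↥(cz(d))) * ⟨x, hx⟩ = 1 from Subtype.ext hx2, map_one])
      (fun e => hx1 (by rw [← hback, e, map_one]; rfl))
      (fun e => hxd (by rw [← hback, e]; exact hφ))
    obtain ⟨hr, hr'⟩ := rep_spec hc5
    have h1 : IsConj d (vg φ (rep c)) := by
      refine hconj.trans ?_
      have := isConj_of_cls φ hc (IsConj.refl _)
      rwa [hback] at this
    rw [hmem _ hr, hr', h13 c hc1 hc5] at h1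
    exact cls_one_iff.1 (h1 ▸ hc)
  · intro hN
    have h := isConj_of_cls φ (IsConj.refl _) (cls_one_iff.2 hN)
    rw [hback] at h
    obtain ⟨hr, hr'⟩ := rep_spec (show 1 ≤ 5 by norm_num)
    exact ((hmem _ hr).2 (by rw [hr']; rfl)).trans h

end Cfsg.Agent.FischerM22Recog
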