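import Cfsg.Agent.Lib.FischerM22Recog.Cent
import Cfsg.Agent.Lib.Involutions.Basic
import Cfsg.Agent.Lib.FischerPresented.Fi22TwoTwoCard

/-!
The copy of Fi22 is the whole group: otherwise each product of two commuting members of another copy would give a
product of three members at the base, and there are too few of those.
-/

set_option autoImplicit false
set_option maxRecDepth 100000

namespace Cfsg.Agent.FischerM22Recog

open Cfsg.Agent.Fischer.Factor (Nb)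
open Cfsg.Agent.FischerUnique (z_mem D_group)
open Cfsg.Agent.FischerUnique.InvolutionClasses (Fac)
open Cfsg.Agent.U62Cover (va)

universe u

local notation "G₀" => Fi22Local.GG
local notation "D₀" => FischerPresented.Fi22Class.D
local notation "z₀" => FischerPresented.Fi22Class.z

/-- The ordered pairs of commuting neighbours of the base transposition. -/
def W0 : Set (G₀ × G₀) := {p | p.1 ∈ Nb D₀ z₀ ∧ p.2 ∈ Nb D₀ z₀ ∧ p.1 ≠ p.2 ∧ Commute p.1 p.2}

/-- The ordered pairs of commuting members. -/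
def Pairs : Set (G₀ × G₀) := {p | p.1 ∈ D₀ ∧ p.2 ∈ Nb D₀ p.1}

theorem card_Nb693 : (Nb D₀ z₀).ncard = 693 := FischerPresented.Fi22TwoTwo.card_Nb

theorem card_pairs : 3510 * 693 ≤ Pairs.ncard := by
  have := FischerPresented.Fi22.order_facts.1
  classical
  have hex : ∀ y : G₀, ∃ c : G₀, y ∈ D₀ → c * z₀ * c⁻¹ = y := fun y => by
    by_cases h : y ∈ D₀
    · obtain ⟨c, hc⟩ := FischerPresented.Fi22Class.mem_D.1 h
      exact ⟨c, fun _ => hc⟩
    · exact ⟨1, fun h' => absurd h' h⟩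
  choose c hc using hex
  have hD : (D₀ : Set G₀).ncard = 3510 := by
    rw [← Nat.card_coe_set_eq, FischerPresented.Fi22Class.card_D]
  let f : G₀ × G₀ → G₀ × G₀ := fun p => (p.1, c p.1 * p.2 * (c p.1)⁻¹)
  calc 3510 * 693 = ((D₀ : Set G₀) ×ˢ Nb D₀ z₀).ncard := by rw [Set.ncard_prod, hD, card_Nb693]
    _ = (f '' ((D₀ : Set G₀) ×ˢ Nb D₀ z₀)).ncard := (Set.ncard_image_of_injOn fun p _ q _ (e : f p = f q) => by
        have e' : (p.1, c p.1 * p.2 * (c p.1)⁻¹) = (q.1, c q.1 * q.2 * (c q.1)⁻¹) := e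
        obtain ⟨e1, e2⟩ := Prod.mk.inj e'
        rw [e1] at e2
        exact Prod.ext e1 (mul_left_cancel (mul_right_cancel e2))).symm
    _ ≤ Pairs.ncard := Set.ncard_le_ncard (by
        rintro _ ⟨⟨y, x⟩, ⟨hy, hx⟩, rfl⟩
        have := Fischer.Factor.nb_conj D_group (c y) hx
        rw [hc y hy] at this
        exact ⟨hy, this⟩)

theorem card_W0 : W0.ncard ≤ 693 * 180 := by
  have := FischerPresented.Fi22.order_facts.1
  classical
  obtain ⟨-, -, hin2⟩ := Fi22Local.Triple.in_counts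
  have hz : (z₀ : G₀) = Fi22Local.trN 0 := by
    rw [Fi22Local.trN_eq (show 0 < 3510 by norm_num)]
    exact (FischerPresented.Out22.tr_word (v := []) (p := (0 : Fin 3510)) rfl (by decide +kernel)).symm
  have hfib : ∀ a ∈ Nb D₀ z₀, {b : G₀ | b ∈ Nb D₀ z₀ ∧ a ≠ b ∧ Commute a b}.ncard ≤ 180 := by
    intro a ha
    obtain ⟨p, hp, rfl⟩ := Fi22Local.exists_trN ha.1
    have h0 : p ≠ 0 := fun e => ha.2.1 (by rw [e, hz])
    have hc : Fi22Local.tapp 0 p = p :=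
      (Fi22Local.Triple.commute_iff (show 0 < 3510 by norm_num) hp).1 (hz ▸ ha.2.2)
    obtain ⟨g, g0, g7⟩ := Fi22Local.Triple.pair_normal hp h0 hc
    have hgz : g * z₀ * g⁻¹ = z₀ := by rw [hz, ← Fi22Local.trN_apt g (by norm_num), g0]
    have hgz' : g⁻¹ * z₀ * g = z₀ :=
      calc g⁻¹ * z₀ * g = g⁻¹ * (g * z₀ * g⁻¹) * g := by rw [hgz]
        _ = z₀ := by group
    have hga : g * Fi22Local.trN 7 * g⁻¹ = Fi22Local.trN p := by rw [← Fi22Local.trN_apt g (by norm_num), g7]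
    let h : Fin 3510 → G₀ := fun q => g * Fi22Local.trN q * g⁻¹
    have hsub : {b : G₀ | b ∈ Nb D₀ z₀ ∧ Fi22Local.trN p ≠ b ∧ Commute (Fi22Local.trN p) b} ⊆
        h '' {q : Fin 3510 | Fi22Local.Triple.in2 q = true} := by
      rintro b ⟨hb, hne, hcb⟩
      have hb' : g⁻¹ * b * g ∈ Nb D₀ z₀ := by
        have := Fischer.Factor.nb_conj D_group g⁻¹ hb
        rwa [inv_inv, hgz'] at this
      obtain ⟨q, hq, eq⟩ := Fi22Local.exists_trN hb'.1
      refine ⟨⟨q, hq⟩, ?_, by show g * Fi22Local.trN q * g⁻¹ = b; rw [eq]; group⟩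
      have c7 : Commute (Fi22Local.trN 7) (Fi22Local.trN q) := by
        refine (Fischer.commute_conj_iff g _ _).1 ?_
        rwa [hga, eq, show g * (g⁻¹ * b * g) * g⁻¹ = b by group]
      simp only [Set.mem_setOf_eq, Fi22Local.Triple.in2, Fi22Local.Triple.cm, Bool.and_eq_true, Bool.not_eq_true',
        Nat.beq_eq]
      refine ⟨⟨?_, ?_⟩, (Fi22Local.Triple.commute_iff (show 0 < 3510 by norm_num) hq).1
        (by rw [← hz, eq]; exact hb'.2.2), (Fi22Local.Triple.commute_iff (show 7 < 3510 by norm_num) hq).1 c7⟩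
      · rw [Bool.eq_false_iff, ne_eq, Nat.beq_eq]
        intro e
        exact hb'.2.1 (by rw [← eq, e, hz])
      · rw [Bool.eq_false_iff, ne_eq, Nat.beq_eq]
        intro e
        refine hne ?_
        rw [← hga, ← e, eq]; group
    refine (Set.ncard_le_ncard hsub).trans ((Set.ncard_image_le).trans ?_)
    rw [← hin2, FischerPresented.Out22.countBelow_eq]
  set T : G₀ → Finset G₀ := fun a => (Set.toFinite {b : G₀ | b ∈ Nb D₀ z₀ ∧ a ≠ b ∧ Commute a b}).toFinset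
  set S : Finset (G₀ × G₀) := (Set.toFinite (Nb D₀ z₀)).toFinset.biUnion fun a => (T a).image fun b => (a, b)
  have hsub : W0 ⊆ (S : Set (G₀ × G₀)) := by
    rintro ⟨a, b⟩ ⟨ha, hb, hne, hc⟩
    simp only [S, T, Finset.mem_coe, Finset.mem_biUnion, Finset.mem_image, Set.Finite.mem_toFinset]
    exact ⟨a, ha, b, ⟨hb, hne, hc⟩, rfl⟩
  refine (Set.ncard_le_ncard hsub).trans ?_
  rw [Set.ncard_coe_finset]
  refine (Finset.card_biUnion_le_card_mul _ _ 180 fun a ha => ?_).trans ?_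
  · refine Finset.card_image_le.trans ?_
    rw [← Set.ncard_eq_toFinset_card _ (Set.toFinite _)]
    exact hfib a ((Set.Finite.mem_toFinset _).1 ha)
  · rw [← Set.ncard_eq_toFinset_card _ (Set.toFinite _), card_Nb693]

variable {G : Type u} [Group G] [Finite G] {d : G} (E : Emb G d) (hd : d * d = 1) (hd1 : d ≠ 1)

include hd hd1

theorem Emb.cent_pair {p q : G₀} (hp : p ∈ D₀) (hq : q ∈ D₀) (hne : p ≠ q) (hc : Commute p q) {k : G}
    (hk : Commute k (E.ψ (p * q))) : k ∈ E.ψ.range := by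
  obtain ⟨t, ht⟩ := isConj_iff.1 (pair_conj hp hq hne hc)
  have h : Commute ((E.ψ t)⁻¹ * k * E.ψ t) E.u₀ := by
    refine (Fischer.commute_conj_iff (E.ψ t) _ _).1 ?_
    rwa [show E.ψ t * ((E.ψ t)⁻¹ * k * E.ψ t) * (E.ψ t)⁻¹ = k by group, Emb.u₀, ← map_inv, ← map_mul, ← map_mul, ht]
  have := mul_mem (mul_mem (show E.ψ t ∈ E.ψ.range from ⟨t, rfl⟩) (E.cent_u hd hd1 h)) (inv_mem ⟨t, rfl⟩)
  rwa [show E.ψ t * ((E.ψ t)⁻¹ * k * E.ψ t) * (E.ψ t)⁻¹ = k by group] at this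

/-- What a pair in another copy gives. -/
theorem Emb.exists_triple_of {g : G} (hg : g ∉ E.ψ.range) {y y' : G₀} (hy : y ∈ D₀) (hy' : y' ∈ D₀) (hne : y ≠ y')
    (hc : Commute y y') : ∃ ab ∈ W0, ∃ w' c : G₀, E.ψ w' = g⁻¹ * E.ψ (z₀ * ab.1 * ab.2) * g ∧ c ∈ D₀ ∧ c ≠ y ∧
      c ≠ y' ∧ Commute c y ∧ Commute c y' ∧ c * y * y' = w' := by
  have := FischerPresented.Fi22.order_facts.1
  set U := g * E.ψ (y * y') * g⁻¹ with hUdef
  have hUd : ¬ IsConj d U := fun h =>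
    E.pair_not_conj hd hd1 hy hy' hne hc (h.trans (isConj_iff.2 ⟨g⁻¹, by rw [hUdef]; group⟩))
  have hyy : y * y' * (y * y') = 1 := by
    rw [mul_assoc, ← mul_assoc y', ← hc.eq, mul_assoc y y' y', sq_D hy', mul_one, sq_D hy]
  have hoU : orderOf U = 2 := by
    rw [hUdef, Invol.order_conj, orderOf_injective E.ψ E.inj]
    refine orderOf_eq_prime (by rw [sq, hyy]) fun e => hne ?_
    rw [eq_inv_of_mul_eq_one_left e, inv_eq_of_mul_eq_one_right (sq_D hy')]
  have hod : orderOf d = 2 := orderOf_eq_prime (by rw [sq, hd]) hd1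
  have hUu : IsConj E.u₀ U := (E.ψ.map_isConj (pair_conj hy hy' hne hc)).trans (isConj_iff.2 ⟨g, rfl⟩)
  have hnoR : U ∉ E.ψ.range := by
    rintro ⟨U₀, hU₀⟩
    have h2 : U₀ * U₀ = 1 := E.inj (by rw [map_mul, hU₀, map_one, ← sq, ← hoU, pow_orderOf_eq_one])
    have h1 : U₀ ≠ 1 := fun e => by
      rw [e, map_one] at hU₀
      rw [← hU₀, orderOf_one] at hoU
      norm_num at hoU
    rcases invol_cases h2 h1 with h | ⟨p, q, hp, hq, hpq, hcpq, rfl⟩ | ⟨l, hn, hl, hD, hcm, hpr⟩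
    · exact hUd (hU₀ ▸ E.conj_mem h)
    · obtain ⟨r, hr⟩ := isConj_iff.1 (pair_conj hp hq hpq hcpq)
      obtain ⟨t, ht⟩ := isConj_iff.1 (pair_conj hy hy' hne hc)
      refine hg ?_
      have ht' : E.ψ t * E.u₀ * (E.ψ t)⁻¹ = E.ψ (y * y') := by
        rw [Emb.u₀, ← map_inv, ← map_mul, ← map_mul, ht]
      have hk : Commute ((E.ψ r)⁻¹ * g * E.ψ t) E.u₀ := by
        refine FischerUnique.commute_of_conj_eq ?_
        calc (E.ψ r)⁻¹ * g * E.ψ t * E.u₀ * ((E.ψ r)⁻¹ * g * E.ψ t)⁻¹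
            = (E.ψ r)⁻¹ * (g * (E.ψ t * E.u₀ * (E.ψ t)⁻¹) * g⁻¹) * E.ψ r := by group
          _ = (E.ψ r)⁻¹ * E.ψ (p * q) * E.ψ r := by
              rw [ht', ← hUdef, hU₀]
          _ = E.u₀ := by rw [← hr, map_mul, map_mul, map_inv, Emb.u₀]; group
      have := mul_mem (mul_mem (show E.ψ r ∈ E.ψ.range from ⟨r, rfl⟩) (E.cent_u hd hd1 hk)) (inv_mem ⟨t, rfl⟩)
      rwa [show E.ψ r * ((E.ψ r)⁻¹ * g * E.ψ t) * (E.ψ t)⁻¹ = g by group] at this
    · obtain ⟨p, q, r, rfl⟩ := List.length_eq_three.1 hl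
      simp only [List.nodup_cons, List.mem_cons, List.not_mem_nil, or_false, not_or, List.nodup_nil, and_true,
        not_false_iff] at hn
      refine E.pair_triple hd hd1 (hD p (by simp)) (hD q (by simp)) (hD r (by simp)) hn.1.1 hn.1.2 hn.2
        (hcm _ (by simp) _ (by simp)) (hcm _ (by simp) _ (by simp)) (hcm _ (by simp) _ (by simp)) ?_
      simp only [List.prod_cons, List.prod_nil, mul_one, ← mul_assoc] at hpr
      rw [hpr, hU₀]
      exact hUu
  have heven : Even (orderOf (d * U)) := by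
    by_contra h
    obtain ⟨e, -, he⟩ := Invol.conj_of_odd hod hoU (Nat.not_even_iff_odd.1 h)
    exact hUd (isConj_iff.2 ⟨e, he⟩)
  set w := (d * U) ^ (orderOf (d * U) / 2)
  have how : orderOf w = 2 := Invol.half_order hod hoU heven (orderOf_pos _)
  obtain ⟨hwd, hwU⟩ := Invol.half_commute hod hoU heven
  have hww : w * w = 1 := by rw [← sq]; exact orderOf_dvd_iff_pow_eq_one.1 how.dvd
  obtain ⟨w₀, hw₀⟩ := E.le_range (Subgroup.mem_centralizer_singleton_iff.2 hwd.eq)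
  have hw2 : w₀ * w₀ = 1 := E.inj (by rw [map_mul, hw₀, map_one]; exact hww)
  have hw1 : w₀ ≠ 1 := fun e => by
    rw [e, map_one] at hw₀
    change 1 = w at hw₀
    rw [← hw₀, orderOf_one] at how
    norm_num at how
  change E.ψ w₀ = w at hw₀
  have htriple : Fac D₀ 3 w₀ := by
    rcases invol_cases hw2 hw1 with h | ⟨p, q, hp, hq, hpq, hcpq, rfl⟩ | h
    · exact absurd (E.cz_le ⟨w₀, h, rfl⟩ (hw₀ ▸ hwU.symm)) hnoR
    · exact absurd (E.cent_pair hd hd1 hp hq hpq hcpq (hw₀ ▸ hwU.symm)) hnoR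
    · exact h
  have hwD : w₀ ∉ D₀ := fun h =>
    absurd (fac_unique le_rfl (by norm_num) (by norm_num) le_rfl (fac_one h) htriple) (by norm_num)
  have hzw : Commute z₀ w₀ := E.inj (by rw [map_mul, map_mul, E.map_z, hw₀]; exact hwd.eq.symm)
  have hdw : d * w = E.ψ (z₀ * w₀) := by rw [map_mul, E.map_z, hw₀]
  have hmemD : ∀ {x : G₀}, IsConj d (E.ψ x) → x ∈ D₀ := fun {x} h => by
    obtain ⟨v, hv, e⟩ := E.mem_P hd hd1 ⟨x, rfl⟩ h
    rwa [← E.inj e]
  by_cases h4 : 4 ∣ orderOf (d * U)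
  · exfalso
    obtain ⟨e, -, he⟩ := Invol.conj_mul_half_of_four_dvd hod hoU h4
    change e * d * e⁻¹ = d * w at he
    rw [hdw] at he
    have hp := hmemD (isConj_iff.2 ⟨e, he⟩)
    have hw : w₀ = z₀ * (z₀ * w₀) := by rw [← mul_assoc, sq_D z_mem, one_mul]
    have hne0 : z₀ ≠ z₀ * w₀ := fun e => hw1 (by rw [hw, ← e, sq_D z_mem])
    have hc0 : Commute z₀ (z₀ * w₀) := (Commute.refl z₀).mul_right hzw
    exact absurd (fac_unique (by norm_num) le_rfl (by norm_num) (by norm_num) htriple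
      (show Fac D₀ 2 w₀ by rw [hw]; exact fac_two z_mem hp hne0 hc0)) (by norm_num)
  obtain ⟨e, hem, he⟩ := Invol.conj_y_mul_half hod hoU heven h4
  change e * U * e⁻¹ = d * w at he
  have hew : Commute e w := by
    clear he
    induction hem using Subgroup.closure_induction with
    | mem x hx => rcases hx with rfl | rfl; exacts [hwd.symm, hwU.symm]
    | one => exact Commute.one_left _
    | mul a b _ _ ha hb => exact ha.mul_left hb
    | inv a _ ha => exact ha.inv_left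
  have hconj : IsConj U (E.ψ (z₀ * w₀)) := isConj_iff.2 ⟨e, by rw [he, hdw]⟩
  have hq2 : z₀ * w₀ * (z₀ * w₀) = 1 := by
    rw [mul_assoc, ← mul_assoc w₀, ← hzw.eq, mul_assoc z₀ w₀ w₀, hw2, mul_one, sq_D z_mem]
  have hq1 : z₀ * w₀ ≠ 1 := fun h => hwD (by
    rw [eq_inv_of_mul_eq_one_right h, inv_eq_of_mul_eq_one_right (sq_D z_mem)]; exact z_mem)
  rcases invol_cases hq2 hq1 with h | ⟨a, b, ha, hb, hab, cab, eab⟩ | ⟨l, hn, hl, hD, hcm, hpr⟩
  · exact absurd ((E.conj_mem h).trans hconj.symm) hUd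
  swap
  · obtain ⟨p, q, r, rfl⟩ := List.length_eq_three.1 hl
    simp only [List.nodup_cons, List.mem_cons, List.not_mem_nil, or_false, not_or, List.nodup_nil, and_true,
      not_false_iff] at hn
    simp only [List.prod_cons, List.prod_nil, mul_one, ← mul_assoc] at hpr
    exact absurd (hUu.trans hconj) (hpr ▸ E.pair_triple hd hd1 (hD p (by simp)) (hD q (by simp)) (hD r (by simp))
      hn.1.1 hn.1.2 hn.2 (hcm _ (by simp) _ (by simp)) (hcm _ (by simp) _ (by simp)) (hcm _ (by simp) _ (by simp)))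
  have hwab : w₀ = z₀ * a * b := by rw [mul_assoc, ← eab, ← mul_assoc, sq_D z_mem, one_mul]
  obtain ⟨za, zb⟩ := commute_pair ha hb z_mem hab cab (eab ▸ (Commute.refl z₀).mul_right hzw)
  have naz : a ≠ z₀ := fun e => hwD (by rw [hwab, e, sq_D z_mem, one_mul]; exact hb)
  have nbz : b ≠ z₀ := fun e => hwD (by
    rw [hwab, e, za.eq, mul_assoc, sq_D z_mem, mul_one]; exact ha)
  refine ⟨(a, b), ⟨⟨ha, naz, za⟩, ⟨hb, nbz, zb⟩, hab, cab⟩, ?_⟩
  have hgw : Commute (g⁻¹ * w * g) (E.ψ (y * y')) := by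
    refine (Fischer.commute_conj_iff g _ _).1 ?_
    rw [show g * (g⁻¹ * w * g) * g⁻¹ = w by group]
    exact hwU
  obtain ⟨w', hw'⟩ := E.cent_pair hd hd1 hy hy' hne hc hgw
  have hcw : Commute (y * y') w' := E.inj (by rw [map_mul E.ψ _ w', map_mul E.ψ w', hw']; exact hgw.eq.symm)
  set c := y * y' * w' with hcdef
  have hcD : c ∈ D₀ := by
    refine hmemD ?_
    refine ((isConj_iff.2 ⟨e * g, ?_⟩ : IsConj (E.ψ c) d)).symm
    rw [hcdef, map_mul, hw']
    calc e * g * (E.ψ (y * y') * (g⁻¹ * w * g)) * (e * g)⁻¹ =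
        (e * U * e⁻¹) * (e * w * e⁻¹) := by rw [hUdef]; group
      _ = d := by
          rw [he, hew.eq, mul_inv_cancel_right, mul_assoc, hww,
            mul_one]
  have hcy : Commute c (y * y') := (Commute.refl _).mul_left hcw.symm
  obtain ⟨c1, c2⟩ := commute_pair hy hy' hcD hne hc hcy
  have hw'eq : c * y * y' = w' := by
    rw [mul_assoc, hcy.eq, hcdef, ← mul_assoc, hyy, one_mul]
  have nw' : ∀ {x : G₀}, x ∈ D₀ → w' ≠ x := fun {x} hx e1 => hwD (hmemD (by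
    rw [e1] at hw'
    rw [hw₀]
    exact (E.conj_mem hx).trans (isConj_iff.2 ⟨g, by rw [hw']; group⟩)))
  refine ⟨w', c, ?_, hcD, fun e => ?_, fun e => ?_, c1, c2, hw'eq⟩
  · rw [hw', ← hw₀, hwab]
  · refine nw' hy' ?_
    rw [← hw'eq, e, sq_D hy, one_mul]
  · refine nw' hy ?_
    rw [← hw'eq, e, mul_assoc, hc.eq, ← mul_assoc, sq_D hy', one_mul]

/-- The copy is the whole group. -/
theorem Emb.surjective : Function.Surjective E.ψ := by
  classical
  by_contra hns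
  obtain ⟨g, hg⟩ : ∃ g, g ∉ E.ψ.range := by
    by_contra h
    push Not at h
    exact hns fun x => h x
  have := FischerPresented.Fi22.order_facts.1
  let Q : G₀ × G₀ → (Bool → List G₀) → Prop := fun ab LL =>
    ∀ w' c y y' : G₀, E.ψ w' = g⁻¹ * E.ψ (z₀ * ab.1 * ab.2) * g → c ∈ D₀ → y ∈ D₀ → y' ∈ D₀ → c ≠ y → c ≠ y' →
      y ≠ y' → Commute c y → Commute c y' → Commute y y' → c * y * y' = w' →
      ∃ (s : Bool) (i j : Fin 3), (LL s).getD i 1 = y ∧ (LL s).getD j 1 = y'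
  have hQ : ∀ ab, ∃ LL, Q ab LL := by
    intro ab
    by_cases hex : ∃ w' c y y' : G₀, E.ψ w' = g⁻¹ * E.ψ (z₀ * ab.1 * ab.2) * g ∧ c ∈ D₀ ∧ y ∈ D₀ ∧ y' ∈ D₀ ∧
        c ≠ y ∧ c ≠ y' ∧ y ≠ y' ∧ Commute c y ∧ Commute c y' ∧ Commute y y' ∧ c * y * y' = w'
    swap
    · exact ⟨fun _ => [], fun w' c y y' h1 h2 h3 h4 h5 h6 h7 h8 h9 h10 h11 =>
        absurd ⟨w', c, y, y', h1, h2, h3, h4, h5, h6, h7, h8, h9, h10, h11⟩ hex⟩
    obtain ⟨w, c₀, y₀, y₀', h1, h2, h3, h4, h5, h6, h7, h8, h9, h10, h11⟩ := hex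
    obtain ⟨l₁, l₂, p1, p2, -, hall⟩ := Fi22Local.Triple.triple_statement (e := MulEquiv.refl G₀) (D := D₀) (by simp)
      w [c₀, y₀, y₀'] ⟨by simp [h5, h6, h7], rfl, by simp [h2, h3, h4],
        by simp [h8, h8.symm, h9, h9.symm, h10, h10.symm], by rw [← h11]; simp [mul_assoc]⟩
    refine ⟨fun s => bif s then l₁ else l₂, fun w' c y y' k1 k2 k3 k4 k5 k6 k7 k8 k9 k10 k11 => ?_⟩
    have hw : w' = w := E.inj (k1.trans h1.symm)
    subst hw
    have key : ∀ (l : List G₀), l.length = 3 → ∀ x ∈ l, ∃ i : Fin 3, l.getD i 1 = x := by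
      intro l hl x hx
      obtain ⟨i, hi, e⟩ := List.getElem_of_mem hx
      exact ⟨⟨i, by omega⟩, by rw [List.getD_eq_getElem _ _ hi, e]⟩
    rcases hall [c, y, y'] ⟨by simp [k5, k6, k7], rfl, by simp [k2, k3, k4],
        by simp [k8, k8.symm, k9, k9.symm, k10, k10.symm], by rw [← k11]; simp [mul_assoc]⟩ with h | h
    · obtain ⟨i, ei⟩ := key l₁ p1.2.1 y ((h y).1 (by simp))
      obtain ⟨j, ej⟩ := key l₁ p1.2.1 y' ((h y').1 (by simp))
      exact ⟨true, i, j, ei, ej⟩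
    · obtain ⟨i, ei⟩ := key l₂ p2.2.1 y ((h y).1 (by simp))
      obtain ⟨j, ej⟩ := key l₂ p2.2.1 y' ((h y').1 (by simp))
      exact ⟨false, i, j, ei, ej⟩
  choose LL hLL using hQ
  let F : (G₀ × G₀) × Bool × Fin 3 × Fin 3 → G₀ × G₀ := fun t =>
    ((LL t.1 t.2.1).getD t.2.2.1 1, (LL t.1 t.2.1).getD t.2.2.2 1)
  have hsub : Pairs ⊆ F '' (W0 ×ˢ (Set.univ : Set (Bool × Fin 3 × Fin 3))) := by
    rintro ⟨y, y'⟩ ⟨hy, hy', hne, hc⟩
    obtain ⟨ab, hab, w', c, hw', hcD, n1, n2, c1, c2, e⟩ := E.exists_triple_of hd hd1 hg hy hy' (Ne.symm hne) hc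
    obtain ⟨s, i, j, ei, ej⟩ := hLL ab w' c y y' hw' hcD hy hy' n1 n2 (Ne.symm hne) c1 c2 hc e
    exact ⟨(ab, s, i, j), ⟨hab, trivial⟩, Prod.ext ei ej⟩
  have h := card_pairs.trans ((Set.ncard_le_ncard hsub).trans Set.ncard_image_le)
  rw [Set.ncard_prod, Set.ncard_univ, Nat.card_prod, Nat.card_prod, Nat.card_eq_fintype_card,
    Nat.card_eq_fintype_card, Fintype.card_bool, Fintype.card_fin] at h
  have := card_W0
  omega

end Cfsg.Agent.FischerM22Recog
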