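import Cfsg.Agent.Lib.FischerUnique.Unique

/-!
Nine transpositions in the shape of the diagram of Fi22 and its relators, from the local conditions only: the
product of two non-commuting members has order three as soon as they have a common neighbour.
-/

set_option autoImplicit false
set_option maxRecDepth 100000

namespace Cfsg.Agent.FischerM22Recog

open Cfsg.Agent.CosetCert
open Cfsg.Agent.RigidGraph.He
open Cfsg.Agent.Fischer.Factor (Nb)
open Cfsg.Agent.FischerUnique

universe u

variable {G : Type u} [Group G] {D : Set G}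

/-- The local conditions. -/
structure LocalTT (D : Set G) : Prop where
  invol : ∀ x ∈ D, x * x = 1
  conj : ∀ g : G, ∀ x ∈ D, g * x * g⁻¹ ∈ D
  cube : ∀ w ∈ D, ∀ x ∈ Nb D w, ∀ y ∈ Nb D w, ¬ Commute x y → (x * y) ^ 3 = 1

theorem LocalTT.sq (hT : LocalTT D) {x : G} (hx : x ∈ D) : x * x = 1 := hT.invol x hx

theorem LocalTT.inv (hT : LocalTT D) {x : G} (hx : x ∈ D) : x⁻¹ = x := inv_eq_of_mul_eq_one_right (hT.invol x hx)

theorem LocalTT.nb_conj (hT : LocalTT D) (g : G) {d y : G} (hy : y ∈ Nb D d) :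
    g * y * g⁻¹ ∈ Nb D (g * d * g⁻¹) :=
  ⟨hT.conj g y hy.1, fun h => hy.2.1 (mul_left_cancel (mul_right_cancel h)),
    (Fischer.commute_conj_iff g d y).2 hy.2.2⟩

variable [Finite G]

theorem isCommonSet (hT : LocalTT D) (hV : ∀ z ∈ D, Nonempty (View D z))
    {a b : G} (ha : a ∈ D) (hb : b ∈ D) (hab : ¬ Commute a b) (A : View D a) :
    IsCommonSet (comSet A b) where
  sub v := by
    rintro ⟨x, hx, -, k, hk, rfl⟩
    exact ⟨smul_ne_zero hk (A.isPoint x hx).1, by
      rw [hf_smul_left, hf_smul_right, (A.isPoint x hx).2, mul_zero, mul_zero]⟩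
  scale v k hk := by
    rintro ⟨x, hx, hc, m, hm, rfl⟩
    exact ⟨x, hx, hc, k * m, mul_ne_zero hk hm, smul_smul k m _⟩
  close v w := by
    rintro ⟨x, hx, hcx, k, hk, rfl⟩ ⟨y, hy, hcy, m, hm, rfl⟩ hne
    obtain ⟨n, hn, e⟩ := A.conj x hx y hy
    have hz : y * x * y⁻¹ ∈ Nb D a := by
      have := hT.nb_conj y hx
      rwa [Fischer.conj_eq_self_of_commute hy.2.2.symm] at this
    refine ⟨_, hz, (hcy.mul_right hcx).mul_right hcy.inv_right, k * n⁻¹,
      mul_ne_zero hk (inv_ne_zero hn), ?_⟩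
    rw [e, smul_smul (k * n⁻¹) n, inv_mul_cancel_right₀ hn, tv, smul_add, smul_smul, add_right_inj, smul_smul]
    congr 1
    have : ∀ m : K4, m ≠ 0 → cj m * m = 1 := by decide
    rw [hf_smul_left, hf_smul_right]
    calc k * (cj m * hf (A.toVec x) (A.toVec y)) * m = k * hf (A.toVec x) (A.toVec y) * (cj m * m) := by ring
      _ = k * hf (A.toVec x) (A.toVec y) := by rw [this m hm, mul_one]
  lineEx v x := by
    rintro ⟨s, hs, hbs, m, hm, rfl⟩ hx hxs hne
    have x0 : x ≠ 0 := fun e => hne 0 (by rw [e, zero_smul, add_zero])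
    obtain ⟨e, he, n, hn, en⟩ := A.surj x x0 hx
    have hes : Commute e s := (A.comm e he s hs).2 (by
      rw [hf_smul_right, mul_eq_zero] at hxs
      rw [en, hf_smul_left, hxs.resolve_left (fun h => hm ((cj_eq_zero m).1 h)), mul_zero])
    have hesne : e ≠ s := by
      intro h
      subst h
      refine hne (m * n)⁻¹ ?_
      rw [en, smul_smul, smul_smul, mul_assoc, inv_mul_cancel₀ (mul_ne_zero hm hn), one_smul]
      exact add_self' _
    obtain ⟨W⟩ := hV s hs.1
    have has : a ∈ Nb D s := ⟨ha, fun h => hs.2.1 h.symm, hs.2.2.symm⟩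
    have hbS : b ∈ Nb D s := ⟨hb, fun h => hab (h ▸ hs.2.2), hbs.symm⟩
    have heS : e ∈ Nb D s := ⟨he.1, hesne, hes.symm⟩
    have hab' : hf (W.toVec a) (W.toVec b) ≠ 0 := fun h => hab ((W.comm a has b hbS).2 h)
    have hea : hf (W.toVec e) (W.toVec a) = 0 := (W.comm e heS a has).1 he.2.2.symm
    set k := hf (W.toVec e) (W.toVec b) * (hf (W.toVec a) (W.toVec b))⁻¹ with hk
    set Y := W.toVec e + k • W.toVec a with hY
    have hYb : hf Y (W.toVec b) = 0 := by
      rw [hY, hf_add_left, hf_smul_left, hk, inv_mul_cancel_right₀ hab', K4.add_self]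
    have hYa : hf Y (W.toVec a) = 0 := by
      rw [hY, hf_add_left, hf_smul_left, hea, (W.isPoint a has).2, mul_zero, add_zero]
    have hYY : hf Y Y = 0 := by
      rw [hY]
      simp only [hf_add_left, hf_add_right, hf_smul_left, hf_smul_right, (W.isPoint e heS).2,
        (W.isPoint a has).2, hea, hf_zero_comm.1 hea, mul_zero, add_zero]
    have hY0 : Y ≠ 0 := fun h => he.2.1 (W.inj e heS a has k (by
      rw [hY, add_eq_zero_iff_eq_neg] at h
      exact h.trans (funext fun _ => rfl)))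
    obtain ⟨y, hy, q, hq, eq⟩ := W.surj Y hY0 hYY
    have hya : Commute y a := (W.comm y hy a has).2 (by rw [eq, hf_smul_left, hYa, mul_zero])
    have hyb : Commute y b := (W.comm y hy b hbS).2 (by rw [eq, hf_smul_left, hYb, mul_zero])
    have hyane : y ≠ a := fun h => hab (h ▸ hyb)
    have hyA : y ∈ Nb D a := ⟨hy.1, hyane, hya.symm⟩
    obtain ⟨γ, δ, hδ, eA⟩ := line_transfer A W he heS hyA hy hs (α := q * k) (β := q)
      (by rw [eq, hY, smul_add, smul_smul, add_comm]) has
    refine ⟨γ * δ⁻¹ * n⁻¹ * m⁻¹, y, hyA, hyb.symm, (δ * n)⁻¹, inv_ne_zero (mul_ne_zero hδ hn), ?_⟩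
    rw [eA, en, smul_add, smul_smul, smul_smul, smul_smul, add_comm (_ • A.toVec s)]
    congr 1
    · rw [smul_smul, mul_assoc, inv_mul_cancel₀ (mul_ne_zero hδ hn), one_smul]
    · congr 1
      field_simp
  lineUniq v x k := by
    rintro ⟨s, hs, hbs, m, hm, rfl⟩ ⟨e, he, hbe, n, hn, rfl⟩ hxs hne hk ⟨y, hy, hby, q, hq, eq⟩
    have hes : Commute e s := (A.comm e he s hs).2 (by
      rw [hf_smul_left, hf_smul_right, mul_eq_zero] at hxs
      exact (mul_eq_zero.1 (hxs.resolve_left hn)).resolve_left fun h => hm ((cj_eq_zero m).1 h))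
    have hesne : e ≠ s := by
      intro h
      subst h
      refine hne (n * m⁻¹) ?_
      rw [smul_smul, inv_mul_cancel_right₀ hm]
      exact add_self' _
    have hys : Commute y s := (A.comm y hy s hs).2 (by
      have h2 : hf (n • A.toVec e + k • (m • A.toVec s)) (A.toVec s) = 0 := by
        rw [hf_add_left, hf_smul_left, hf_smul_left, hf_smul_left, (A.comm e he s hs).1 hes,
          (A.isPoint s hs).2, mul_zero, mul_zero, mul_zero, add_zero]
      rw [eq, hf_smul_left, mul_eq_zero] at h2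
      exact h2.resolve_left hq)
    have hysne : y ≠ s := by
      intro h
      subst h
      refine hne (k + q * m⁻¹) ?_
      rw [add_smul, ← add_assoc, eq, smul_smul, inv_mul_cancel_right₀ hm]
      exact add_self' _
    obtain ⟨W⟩ := hV s hs.1
    have has : a ∈ Nb D s := ⟨ha, fun h => hs.2.1 h.symm, hs.2.2.symm⟩
    have hbS : b ∈ Nb D s := ⟨hb, fun h => hab (h ▸ hs.2.2), hbs.symm⟩
    have heS : e ∈ Nb D s := ⟨he.1, hesne, hes.symm⟩
    have hyS : y ∈ Nb D s := ⟨hy.1, hysne, hys.symm⟩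
    have hsA : s ∈ Nb D a := hs
    have ey : A.toVec y = (q⁻¹ * (k * m)) • A.toVec s + (q⁻¹ * n) • A.toVec e := by
      have := congrArg (fun z => q⁻¹ • z) eq
      simp only [smul_add, smul_smul, inv_mul_cancel₀ hq, one_smul] at this
      rw [← this, add_comm]
    obtain ⟨γ, δ, hδ, eW⟩ := line_transfer W A heS he hyS hy has ey hsA
    have hab' : hf (W.toVec a) (W.toVec b) ≠ 0 := fun h => hab ((W.comm a has b hbS).2 h)
    have h1 := (W.comm y hyS b hbS).1 hby.symm
    rw [eW, hf_add_left, hf_smul_left, hf_smul_left, (W.comm e heS b hbS).1 hbe.symm, mul_zero,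
      add_zero, mul_eq_zero] at h1
    have hγ := h1.resolve_right hab'
    have : y = e := W.inj y hyS e heS δ (by rw [eW, hγ, zero_smul, zero_add])
    subst this
    have h2 : (n + q) • A.toVec y + (k * m) • A.toVec s = 0 := by
      rw [add_smul, ← eq, smul_smul, add_right_comm]
      exact add_self' _
    rcases eq_or_ne (n + q) 0 with h3 | h3
    · rw [h3, zero_smul, zero_add] at h2
      exact mul_ne_zero hk hm ((smul_eq_zero.1 h2).resolve_right (A.isPoint s hs).1)
    · refine hesne (A.inj y hy s hs ((n + q)⁻¹ * (k * m)) ?_)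
      have h4 : (n + q) • A.toVec y = (k * m) • A.toVec s := by
        rw [add_eq_zero_iff_eq_neg] at h2
        exact h2.trans (funext fun _ => rfl)
      rw [mul_smul, ← h4, smul_smul, inv_mul_cancel₀ h3, one_smul]

theorem common_path (hT : LocalTT D) (hV : ∀ z ∈ D, Nonempty (View D z))
    {f : ℕ → G} (h : Nine D f) (P : Placed D f) :
    IsCommonSet (comSet P.view (f 1)) ∧ ∀ i < 6, comSet P.view (f 1) (vec (pp i)) := by
  refine ⟨isCommonSet hT hV (h.mem 0 (by norm_num)) (h.mem 1 (by norm_num))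
    (by rw [h.rel 0 (by norm_num) 1 (by norm_num) (by norm_num)]; decide) P.view, fun i hi => ?_⟩
  obtain ⟨h1, h2, h3, h4, h5, h6, h7, -⟩ := pix_ok i hi
  obtain ⟨k, hk, e⟩ := P.pos _ h1 h2
  rw [← h3]
  exact comSet_scaled P.view (h.mem_nb (by norm_num) h1 (Ne.symm h6) h4)
    ((h.rel 1 (by norm_num) _ h1 (Ne.symm h7)).2 h5) hk e

/-- An element centralising a, …, f, h centralises g and i. -/
theorem fix_ends (hT : LocalTT D) (hV : ∀ z ∈ D, Nonempty (View D z))
    {f : ℕ → G} (h : Nine D f) {k : G} (hk : ∀ i ∈ [0, 1, 2, 3, 4, 5, 7], Commute k (f i)) :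
    Commute k (f 6) ∧ Commute k (f 8) := by
  obtain ⟨P⟩ := nonempty_placed hV h
  obtain ⟨hS, hp⟩ := common_path hT hV h P
  have hnb : ∀ i < 9, 2 ≤ i → f i ∈ Nb D (f 0) := fun i hi h2 =>
    h.mem_nb (by norm_num) hi (by omega) (cd9_pt i hi h2).2.2
  have hconj : ∀ {x : G}, x ∈ Nb D (f 0) → k * x * k⁻¹ ∈ Nb D (f 0) := fun {x} hx => by
    have := hT.nb_conj k hx
    rwa [Fischer.conj_eq_self_of_commute (hk 0 (by simp))] at this
  let at_ : ℕ → G := fun n =>
    if n = 80 then f 2 else if n = 144 then f 3 else if n = 85 then f 4 else if n = 9 then f 5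
    else if n = 1360 then f 7 else f 8
  have hrel : ∀ i < 9, ∀ j < 9, i ≠ j → Commute k (f j) →
      (Commute (k * f i * k⁻¹) (f j) ↔ edgeB i j = false) ∧ k * f i * k⁻¹ ≠ f j := fun i hi j hj hij hc =>
    ⟨(conj_rel hc).1.trans (h.rel i hi j hj hij), fun e => h.ne i hi j hj hij ((conj_rel hc).2.1 e)⟩
  have hi8 : Commute k (f 8) := by
    have hx := hconj (hnb 8 (by norm_num) (by norm_num))
    obtain ⟨n, hn, m, hm, e⟩ := P.view.locate hx uI (at_ := at_)
      (fun n hn => by
        simp only [List.cons_append, List.nil_append, List.mem_cons, List.not_mem_nil, or_false] at hn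
        rcases hn with rfl | rfl | rfl | rfl | rfl
        · exact ⟨hnb 7 (by norm_num) (by norm_num), P.pos 7 (by norm_num) (by norm_num)⟩
        · exact ⟨hnb 2 (by norm_num) le_rfl, P.pos 2 (by norm_num) le_rfl⟩
        · exact ⟨hnb 3 (by norm_num) (by norm_num), P.pos 3 (by norm_num) (by norm_num)⟩
        · exact ⟨hnb 4 (by norm_num) (by norm_num), P.pos 4 (by norm_num) (by norm_num)⟩
        · exact ⟨hnb 5 (by norm_num) (by norm_num), P.pos 5 (by norm_num) (by norm_num)⟩)
      (fun n hn => by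
        rw [List.mem_singleton.1 hn, show at_ 1360 = f 7 from rfl,
          (hrel 8 (by norm_num) 7 (by norm_num) (by norm_num) (hk 7 (by simp))).1]
        decide)
      (fun n hn => by
        have key : ∀ j ∈ [2, 3, 4, 5], Commute (k * f 8 * k⁻¹) (f j) ∧ k * f 8 * k⁻¹ ≠ f j := by
          intro j hj
          obtain ⟨j1, j2, j3, j4⟩ := (by decide +kernel : ∀ j ∈ [2, 3, 4, 5], j < 9 ∧ 8 ≠ j ∧ edgeB 8 j = false ∧
            j ∈ [0, 1, 2, 3, 4, 5, 7]) j hj
          obtain ⟨h1, h2⟩ := hrel 8 (by norm_num) j j1 j2 (hk j j4)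
          exact ⟨h1.2 j3, h2⟩
        simp only [List.mem_cons, List.not_mem_nil, or_false] at hn
        rcases hn with rfl | rfl | rfl | rfl
        · exact key 2 (by simp)
        · exact key 3 (by simp)
        · exact key 4 (by simp)
        · exact key 5 (by simp))
    have hb : Commute (f 1) (k * f 8 * k⁻¹) :=
      ((hrel 8 (by norm_num) 1 (by norm_num) (by norm_num) (hk 1 (by simp))).1.2 (by decide)).symm
    simp only [List.mem_cons, List.not_mem_nil, or_false] at hn
    rcases hn with rfl | rfl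
    · obtain ⟨m', hm', e'⟩ := P.pos 8 (by norm_num) (by norm_num)
      refine commute_of_conj_eq (P.view.inj _ hx _ (hnb 8 (by norm_num) (by norm_num)) (m * m'⁻¹) ?_)
      rw [e', show cd9 8 = 2304 from rfl, smul_smul, inv_mul_cancel_right₀ hm', e]
    · exact absurd (comSet_scaled P.view hx hb hm e) (not_3328 hS hp)
  refine ⟨?_, hi8⟩
  have hx := hconj (hnb 6 (by norm_num) (by norm_num))
  obtain ⟨n, hn, m, hm, e⟩ := P.view.locate hx uG (at_ := at_)
    (fun n hn => by
      simp only [List.cons_append, List.nil_append, List.mem_cons, List.not_mem_nil, or_false] at hn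
      rcases hn with rfl | rfl | rfl | rfl | rfl | rfl
      · exact ⟨hnb 5 (by norm_num) (by norm_num), P.pos 5 (by norm_num) (by norm_num)⟩
      · exact ⟨hnb 2 (by norm_num) le_rfl, P.pos 2 (by norm_num) le_rfl⟩
      · exact ⟨hnb 3 (by norm_num) (by norm_num), P.pos 3 (by norm_num) (by norm_num)⟩
      · exact ⟨hnb 4 (by norm_num) (by norm_num), P.pos 4 (by norm_num) (by norm_num)⟩
      · exact ⟨hnb 7 (by norm_num) (by norm_num), P.pos 7 (by norm_num) (by norm_num)⟩
      · exact ⟨hnb 8 (by norm_num) (by norm_num), P.pos 8 (by norm_num) (by norm_num)⟩)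
    (fun n hn => by
      rw [List.mem_singleton.1 hn, show at_ 9 = f 5 from rfl,
        (hrel 6 (by norm_num) 5 (by norm_num) (by norm_num) (hk 5 (by simp))).1]
      decide)
    (fun n hn => by
      have key : ∀ j ∈ [2, 3, 4, 7, 8], Commute (k * f 6 * k⁻¹) (f j) ∧ k * f 6 * k⁻¹ ≠ f j := by
        intro j hj
        obtain ⟨j1, j2, j3, j4⟩ := (by decide +kernel : ∀ j ∈ [2, 3, 4, 7, 8], j < 9 ∧ 6 ≠ j ∧
          edgeB 6 j = false ∧ (j = 8 ∨ j ∈ [0, 1, 2, 3, 4, 5, 7])) j hj
        obtain ⟨h1, h2⟩ := hrel 6 (by norm_num) j j1 j2 (j4.elim (fun e => e ▸ hi8) (hk j))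
        exact ⟨h1.2 j3, h2⟩
      simp only [List.mem_cons, List.not_mem_nil, or_false] at hn
      rcases hn with rfl | rfl | rfl | rfl | rfl
      · exact key 2 (by simp)
      · exact key 3 (by simp)
      · exact key 4 (by simp)
      · exact key 7 (by simp)
      · exact key 8 (by simp))
  rw [List.mem_singleton.1 hn] at e
  obtain ⟨m', hm', e'⟩ := P.pos 6 (by norm_num) (by norm_num)
  refine commute_of_conj_eq (P.view.inj _ hx _ (hnb 6 (by norm_num) (by norm_num)) (m * m'⁻¹) ?_)
  rw [e', show cd9 6 = 5 from rfl, smul_smul, inv_mul_cancel_right₀ hm', e]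

/-- An element centralising b, c, d, e, f, h, i centralises a and g. -/
theorem fix_tips (hT : LocalTT D) (hV : ∀ z ∈ D, Nonempty (View D z))
    {f : ℕ → G} (h : Nine D f) {k : G} (hk : ∀ i ∈ [1, 2, 3, 4, 5, 7, 8], Commute k (f i)) :
    Commute k (f 0) ∧ Commute k (f 6) := by
  obtain ⟨B₀⟩ := hV _ (h.mem 8 (by norm_num))
  have h8 : ∀ i < 7, f i ∈ Nb D (f 8) := fun i hi =>
    h.mem_nb (by norm_num) (by omega) (by omega) (by interval_cases i <;> decide)
  obtain ⟨B, hB⟩ := exists_normal B₀ f (fun i hi => h8 i (by omega))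
    (fun i hi j hj hij => by
      have e : ∀ i < 6, ∀ j < 6, i ≠ j → edgeB i j = adjP i j := by decide +kernel
      rw [h.rel i (by omega) j (by omega) hij, e i hi j hj hij])
  let at_ : ℕ → G := fun n =>
    if n = 5 then f 0 else if n = 9 then f 1 else if n = 85 then f 2 else if n = 144 then f 3
    else if n = 1360 then f 4 else f 5
  have hg7 : ∃ m : K4, m ≠ 0 ∧ B.toVec (f 6) = m • vec 1280 := by
    obtain ⟨n, hn, hm⟩ := B.locate (h8 6 (by norm_num)) uG7 (at_ := at_)
      (fun n hn => by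
        simp only [List.cons_append, List.nil_append, List.mem_cons, List.not_mem_nil, or_false] at hn
        rcases hn with rfl | rfl | rfl | rfl | rfl | rfl
        · exact ⟨h8 5 (by norm_num), hB 5 (by norm_num)⟩
        · exact ⟨h8 0 (by norm_num), hB 0 (by norm_num)⟩
        · exact ⟨h8 1 (by norm_num), hB 1 (by norm_num)⟩
        · exact ⟨h8 2 (by norm_num), hB 2 (by norm_num)⟩
        · exact ⟨h8 3 (by norm_num), hB 3 (by norm_num)⟩
        · exact ⟨h8 4 (by norm_num), hB 4 (by norm_num)⟩)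
      (fun n hn => by
        rw [List.mem_singleton.1 hn, show at_ 2304 = f 5 from rfl,
          h.rel 6 (by norm_num) 5 (by norm_num) (by norm_num)]
        decide)
      (fun n hn => by
        have key : ∀ j < 5, Commute (f 6) (f j) ∧ f 6 ≠ f j := fun j hj =>
          ⟨(h.rel 6 (by norm_num) j (by omega) (by omega)).2 (by interval_cases j <;> decide),
            h.ne 6 (by norm_num) j (by omega) (by omega)⟩
        simp only [List.mem_cons, List.not_mem_nil, or_false] at hn
        rcases hn with rfl | rfl | rfl | rfl | rfl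
        · exact key 0 (by norm_num)
        · exact key 1 (by norm_num)
        · exact key 2 (by norm_num)
        · exact key 3 (by norm_num)
        · exact key 4 (by norm_num))
    rw [List.mem_singleton.1 hn] at hm
    exact hm
  set U := comSet B (f 7) with hUdef
  have hU : IsCommonSet U := isCommonSet hT hV (h.mem 8 (by norm_num)) (h.mem 7 (by norm_num))
    (by rw [h.rel 8 (by norm_num) 7 (by norm_num) (by norm_num)]; decide) B
  have inU : ∀ i ∈ [0, 1, 2, 4, 5, 6], ∀ (n : ℕ) (m : K4), m ≠ 0 → B.toVec (f i) = m • vec n → U (vec n) := by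
    intro i hi n m hm e
    obtain ⟨i1, i2, i3⟩ := (by decide +kernel : ∀ i ∈ [0, 1, 2, 4, 5, 6], i < 7 ∧ 7 ≠ i ∧
      edgeB 7 i = false) i hi
    exact comSet_scaled B (h8 i i1) ((h.rel 7 (by norm_num) i (by omega) i2).2 i3) hm e
  have hd : ¬ U (vec 144) := by
    obtain ⟨m, hm, e⟩ := hB 3 (by norm_num)
    refine not_comSet_scaled B (h8 3 (by norm_num)) ?_ hm e
    rw [h.rel 7 (by norm_num) 3 (by norm_num) (by norm_num)]; decide
  obtain ⟨hnA, hnG⟩ := arm hU (fun p hp => by
    simp only [List.mem_cons, List.not_mem_nil, or_false] at hp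
    rcases hp with rfl | rfl | rfl | rfl | rfl | rfl
    · obtain ⟨m, hm, e⟩ := hB 0 (by norm_num); exact inU 0 (by simp) _ m hm e
    · obtain ⟨m, hm, e⟩ := hB 1 (by norm_num); exact inU 1 (by simp) _ m hm e
    · obtain ⟨m, hm, e⟩ := hB 2 (by norm_num); exact inU 2 (by simp) _ m hm e
    · obtain ⟨m, hm, e⟩ := hB 4 (by norm_num); exact inU 4 (by simp) _ m hm e
    · obtain ⟨m, hm, e⟩ := hB 5 (by norm_num); exact inU 5 (by simp) _ m hm e
    · obtain ⟨m, hm, e⟩ := hg7; exact inU 6 (by simp) _ m hm e) hd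
  have hconj : ∀ {x : G}, x ∈ Nb D (f 8) → k * x * k⁻¹ ∈ Nb D (f 8) := fun {x} hx => by
    have := hT.nb_conj k hx
    rwa [Fischer.conj_eq_self_of_commute (hk 8 (by simp))] at this
  have hrel : ∀ i < 9, ∀ j < 9, i ≠ j → Commute k (f j) →
      (Commute (k * f i * k⁻¹) (f j) ↔ edgeB i j = false) ∧ k * f i * k⁻¹ ≠ f j := fun i hi j hj hij hc =>
    ⟨(conj_rel hc).1.trans (h.rel i hi j hj hij), fun e => h.ne i hi j hj hij ((conj_rel hc).2.1 e)⟩
  constructor
  · have hx := hconj (h8 0 (by norm_num))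
    obtain ⟨n, hn, m, hm, e⟩ := B.locate hx uA (at_ := at_)
      (fun n hn => by
        simp only [List.cons_append, List.nil_append, List.mem_cons, List.not_mem_nil, or_false] at hn
        rcases hn with rfl | rfl | rfl | rfl | rfl
        · exact ⟨h8 1 (by norm_num), hB 1 (by norm_num)⟩
        · exact ⟨h8 2 (by norm_num), hB 2 (by norm_num)⟩
        · exact ⟨h8 3 (by norm_num), hB 3 (by norm_num)⟩
        · exact ⟨h8 4 (by norm_num), hB 4 (by norm_num)⟩
        · exact ⟨h8 5 (by norm_num), hB 5 (by norm_num)⟩)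
      (fun n hn => by
        rw [List.mem_singleton.1 hn, show at_ 9 = f 1 from rfl,
          (hrel 0 (by norm_num) 1 (by norm_num) (by norm_num) (hk 1 (by simp))).1]
        decide)
      (fun n hn => by
        have key : ∀ j ∈ [2, 3, 4, 5], Commute (k * f 0 * k⁻¹) (f j) ∧ k * f 0 * k⁻¹ ≠ f j := by
          intro j hj
          obtain ⟨j1, j2, j3, j4⟩ := (by decide +kernel : ∀ j ∈ [2, 3, 4, 5], j < 9 ∧ 0 ≠ j ∧ edgeB 0 j = false ∧
            j ∈ [1, 2, 3, 4, 5, 7, 8]) j hj
          obtain ⟨h1, h2⟩ := hrel 0 (by norm_num) j j1 j2 (hk j j4)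
          exact ⟨h1.2 j3, h2⟩
        simp only [List.mem_cons, List.not_mem_nil, or_false] at hn
        rcases hn with rfl | rfl | rfl | rfl
        · exact key 2 (by simp)
        · exact key 3 (by simp)
        · exact key 4 (by simp)
        · exact key 5 (by simp))
    simp only [List.mem_cons, List.not_mem_nil, or_false] at hn
    rcases hn with rfl | rfl
    · obtain ⟨m', hm', e'⟩ := hB 0 (by norm_num)
      refine commute_of_conj_eq (B.inj _ hx _ (h8 0 (by norm_num)) (m * m'⁻¹) ?_)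
      rw [e', show pp 0 = 5 from rfl, smul_smul, inv_mul_cancel_right₀ hm', e]
    · exact absurd (comSet_scaled B hx
        ((hrel 0 (by norm_num) 7 (by norm_num) (by norm_num) (hk 7 (by simp))).1.2 (by decide)).symm hm e) hnA
  · have hx := hconj (h8 6 (by norm_num))
    obtain ⟨n, hn, m, hm, e⟩ := B.locate hx uB (at_ := at_)
      (fun n hn => by
        simp only [List.cons_append, List.nil_append, List.mem_cons, List.not_mem_nil, or_false] at hn
        rcases hn with rfl | rfl | rfl | rfl | rfl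
        · exact ⟨h8 5 (by norm_num), hB 5 (by norm_num)⟩
        · exact ⟨h8 1 (by norm_num), hB 1 (by norm_num)⟩
        · exact ⟨h8 2 (by norm_num), hB 2 (by norm_num)⟩
        · exact ⟨h8 3 (by norm_num), hB 3 (by norm_num)⟩
        · exact ⟨h8 4 (by norm_num), hB 4 (by norm_num)⟩)
      (fun n hn => by
        rw [List.mem_singleton.1 hn, show at_ 2304 = f 5 from rfl,
          (hrel 6 (by norm_num) 5 (by norm_num) (by norm_num) (hk 5 (by simp))).1]
        decide)
      (fun n hn => by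
        have key : ∀ j ∈ [1, 2, 3, 4], Commute (k * f 6 * k⁻¹) (f j) ∧ k * f 6 * k⁻¹ ≠ f j := by
          intro j hj
          obtain ⟨j1, j2, j3, j4⟩ := (by decide +kernel : ∀ j ∈ [1, 2, 3, 4], j < 9 ∧ 6 ≠ j ∧ edgeB 6 j = false ∧
            j ∈ [1, 2, 3, 4, 5, 7, 8]) j hj
          obtain ⟨h1, h2⟩ := hrel 6 (by norm_num) j j1 j2 (hk j j4)
          exact ⟨h1.2 j3, h2⟩
        simp only [List.mem_cons, List.not_mem_nil, or_false] at hn
        rcases hn with rfl | rfl | rfl | rfl
        · exact key 1 (by simp)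
        · exact key 2 (by simp)
        · exact key 3 (by simp)
        · exact key 4 (by simp))
    simp only [List.mem_cons, List.not_mem_nil, or_false] at hn
    rcases hn with rfl | rfl
    · obtain ⟨m', hm', e'⟩ := hg7
      refine commute_of_conj_eq (B.inj _ hx _ (h8 6 (by norm_num)) (m * m'⁻¹) ?_)
      rw [e', smul_smul, inv_mul_cancel_right₀ hm', e]
    · exact absurd (comSet_scaled B hx
        ((hrel 6 (by norm_num) 7 (by norm_num) (by norm_num) (hk 7 (by simp))).1.2 (by decide)).symm hm e) hnG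

theorem edge_witness_ok : ((List.range 9).all fun i => (List.range 9).all fun j => !edgeB i j ||
    (List.range 9).any fun k => !Nat.beq k i && !Nat.beq k j && !edgeB k i && !edgeB k j) = true := by decide +kernel

theorem edge_witness {i j : ℕ} (hi : i < 9) (hj : j < 9) (he : edgeB i j = true) :
    ∃ k < 9, k ≠ i ∧ k ≠ j ∧ edgeB k i = false ∧ edgeB k j = false := by
  have h := List.all_eq_true.1 (List.all_eq_true.1 edge_witness_ok i (List.mem_range.2 hi)) j (List.mem_range.2 hj)
  simp only [he, Bool.not_true, Bool.false_or, List.any_eq_true, List.mem_range, Bool.and_eq_true,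
    Bool.not_eq_true'] at h
  obtain ⟨k, hk, ⟨⟨h1, h2⟩, h3⟩, h4⟩ := h
  exact ⟨k, hk, Nat.ne_of_beq_eq_false h1, Nat.ne_of_beq_eq_false h2, h3, h4⟩

/-- Adjacent members of the nine have product of order three. -/
theorem nine_cube (hT : LocalTT D) {f : ℕ → G} (h : Nine D f) {i j : ℕ} (hi : i < 9) (hj : j < 9) (hij : i ≠ j)
    (he : edgeB i j = true) : (f i * f j) ^ 3 = 1 := by
  obtain ⟨k, hk, ki, kj, ei, ej⟩ := edge_witness hi hj he
  exact hT.cube _ (h.mem k hk) _ (h.mem_nb hk hi ki ei) _ (h.mem_nb hk hj kj ej)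
    fun hc => by rw [(h.rel i hi j hj hij).1 hc] at he; exact Bool.noConfusion he

theorem wprod_base (hT : LocalTT D) {f : ℕ → G} (h : Nine D f)
    {base : List (List ℕ)} {emb extra : List ℕ} (hc : baseChk base emb extra = true)
    (he : wprod (pick f emb) extra = 1) : ∀ w ∈ base, wprod (pick f emb) w = 1 := by
  intro w hw
  simp only [baseChk, List.all_eq_true, Bool.or_eq_true, List.any_eq_true, List.mem_range,
    Bool.and_eq_true, Nat.blt_eq, Bool.not_eq_true'] at hc
  rcases hc w hw with e | ⟨i, -, j, -, ⟨⟨hi, hj⟩, hij⟩, e⟩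
  · rw [eq_of_wordEq e]; exact he
  rw [eq_of_wordEq e, wprod_rep, wprod_cons, wprod_cons, wprod_nil, mul_one]
  have hij' : emb.getD i 0 ≠ emb.getD j 0 := fun e => by
    rw [e] at hij; simp at hij
  have hr := h.rel _ hi _ hj hij'
  show (f (emb.getD i 0) * f (emb.getD j 0)) ^ _ = 1
  cases he' : edgeB (emb.getD i 0) (emb.getD j 0) with
  | false =>
    rw [cond_false]
    exact (Fischer.commute_iff_sq_eq_one (hT.sq (h.mem _ hi))
      (hT.sq (h.mem _ hj))).1 (hr.2 he')
  | true =>
    rw [cond_true]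
    exact nine_cube hT h hi hj hij' he'


/-- A relator commutes with the generators of its sub-diagram. -/
theorem commute_relator [Finite G] {α : Type} [DecidableEq α] (S : Setup α) (hT : LocalTT D)
    {f : ℕ → G} (h : Nine D f) {emb extra : List ℕ} (hemb : ∀ i, emb.getD i 0 < 9)
    (hc : baseChk S.base emb extra = true) (he : wprod (pick f emb) extra = 1)
    {w : List ℕ} {x : ℕ} (hw : wprod S.gen (w ++ [x] ++ w.reverse ++ [x]) = 1)
    (hlt : ∀ y ∈ w, y < S.P.k) (hx : x < S.P.k) :
    Commute (wprod (pick f emb) w) (pick f emb x) := by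
  have hinv : ∀ y, pick f emb y * pick f emb y = 1 := fun y => hT.sq (h.mem _ (hemb y))
  obtain ⟨ψ, hψ⟩ := exists_hom_fin S (pick f emb) hinv (wprod_base hT h hc he)
  have := congrArg ψ hw
  rw [map_one, map_wprod, wprod_congr (g := pick f emb) (fun y hy => hψ y (by
    simp only [List.mem_append, List.mem_singleton, List.mem_reverse] at hy
    rcases hy with ((hy | rfl) | hy) | rfl <;> first | exact hlt _ hy | exact hx))] at this
  rw [wprod_append, wprod_append, wprod_append, wprod_reverse hinv, wprod_cons, wprod_nil, mul_one] at this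
  have e := eq_inv_of_mul_eq_one_left this
  rw [inv_eq_of_mul_eq_one_right (hinv x)] at e
  exact commute_of_conj_eq e

/-- Conjugates inside the neighbourhood of the first member, by their places. -/
theorem word_point (hT : LocalTT D) {f : ℕ → G} (h : Nine D f) (P : Placed D f) :
    ∀ (L : List ℕ), (∀ i ∈ L, i < 9 ∧ 2 ≤ i) → ∀ {x : G} {n : ℕ} {k : K4}, x ∈ Nb D (f 0) → k ≠ 0 →
      P.view.toVec x = k • vec n → wprod f L * x * (wprod f L)⁻¹ ∈ Nb D (f 0) ∧
        ∃ m : K4, m ≠ 0 ∧ P.view.toVec (wprod f L * x * (wprod f L)⁻¹) = m • vec (tvN (L.map cd9) n) := by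
  intro L
  induction L with
  | nil => intro _ x n k hx hk e; simp [wprod_nil, tvN, hx]; exact ⟨k, hk, e⟩
  | cons i L ih =>
    intro hL x n k hx hk e
    obtain ⟨hi, h2⟩ := hL i List.mem_cons_self
    obtain ⟨hm, m, hm0, em⟩ := ih (fun j hj => hL j (List.mem_cons_of_mem _ hj)) hx hk e
    have hfi : f i ∈ Nb D (f 0) := h.mem_nb (by norm_num) hi (by omega) (cd9_pt i hi h2).2.2
    obtain ⟨c, hc, ec⟩ := P.view.conj _ hm _ hfi
    obtain ⟨d, hd, ed⟩ := P.pos i hi h2
    have e2 : wprod f (i :: L) * x * (wprod f (i :: L))⁻¹ =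
        f i * (wprod f L * x * (wprod f L)⁻¹) * (f i)⁻¹ := by rw [wprod_cons]; group
    rw [e2]
    refine ⟨?_, c * m, mul_ne_zero hc hm0, ?_⟩
    · have := hT.nb_conj (f i) hm
      rwa [Fischer.conj_eq_self_of_commute hfi.2.2.symm] at this
    · rw [ec, ed, em, tv_smul hd, tv_smul_arg, smul_smul, List.map_cons, tvN, vec_rN (by norm_num),
        show K4.ofDigit 1 = 1 from rfl, one_mul, tv]

/-- The element (b θ)³ of the affine sub-diagram is trivial. -/
theorem theta_rel (hT : LocalTT D) (hV : ∀ z ∈ D, Nonempty (View D z))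
    {f : ℕ → G} (h : Nine D f) :
    wprod (pick f [1, 2, 3, 4, 5, 7, 8]) (rep 3 [0, 1, 2, 5, 6, 3, 2, 5, 4, 3, 2, 1, 2, 3, 4, 5, 2, 3, 6, 5, 2, 1]) = 1 := by
  obtain ⟨P⟩ := nonempty_placed hV h
  obtain ⟨hS, hp⟩ := common_path hT hV h P
  set L : List ℕ := [2, 3, 7, 8, 4, 3, 7, 5, 4, 3] with hLdef
  have hL : ∀ i ∈ L, i < 9 ∧ 2 ≤ i := by decide
  have h2 : f 2 ∈ Nb D (f 0) := h.mem_nb (by norm_num) (by norm_num) (by norm_num) (by decide)
  obtain ⟨k, hk, e⟩ := P.pos 2 (by norm_num) le_rfl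
  obtain ⟨hr, m, hm, em⟩ := word_point hT h P L hL h2 hk e
  have hcode : nm (tvN (L.map cd9) (cd9 2)) = 2457 := by decide +kernel
  obtain ⟨-, c, hc, ec⟩ := vec_nm (tvN (L.map cd9) (cd9 2))
  rw [hcode] at ec
  have em' : P.view.toVec (wprod f L * f 2 * (wprod f L)⁻¹) = (m * c⁻¹) • vec 2457 := by
    rw [em, ec, smul_smul, inv_mul_cancel_right₀ hc]
  have hnc : ¬ Commute (f 1) (wprod f L * f 2 * (wprod f L)⁻¹) := fun hcc =>
    not_2457 hS hp (comSet_scaled P.view hr hcc (mul_ne_zero hm (inv_ne_zero hc)) em')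
  have h3 : f 3 ∈ Nb D (f 0) := h.mem_nb (by norm_num) (by norm_num) (by norm_num) (by decide)
  obtain ⟨k3, hk3, e3⟩ := P.pos 3 (by norm_num) (by norm_num)
  have hw : wprod f L * f 2 * (wprod f L)⁻¹ ∈ Nb D (f 3) := by
    refine ⟨hr.1, fun e => ?_, ((P.view.hf_zero hr h3 hk3 e3).1 ?_).symm⟩
    · rw [e, e3] at em'
      have hi : indep 144 2457 = true := by decide +kernel
      refine of_indep (show 144 < 4096 by norm_num) hi (k3⁻¹ * (m * c⁻¹)) ?_
      rw [mul_smul, ← em', show cd9 3 = 144 from rfl, smul_smul, inv_mul_cancel₀ hk3, one_smul]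
      exact add_self' _
    · have ho : Nat.beq (fN 2457 (cd9 3)) 0 = true := by decide +kernel
      rw [em', hf_smul_left, orth_iff.1 ho, mul_zero]
  have := hT.cube _ (h.mem 3 (by norm_num)) _
    (h.mem_nb (i := 3) (j := 1) (by norm_num) (by norm_num) (by norm_num) (by decide)) _ hw hnc
  rw [wprod_rep, wprod_pick]
  refine Eq.trans (congrArg (fun z => z ^ 3) ?_) this
  have inv : ∀ i < 9, (f i)⁻¹ = f i := fun i hi => hT.inv (h.mem i hi)
  simp only [hLdef, List.map_cons, List.map_nil, List.getD_cons_succ, List.getD_cons_zero, wprod_cons,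
    wprod_nil, mul_inv_rev, mul_one, one_mul, inv 2 (by norm_num), inv 3 (by norm_num), inv 4 (by norm_num),
    inv 5 (by norm_num), inv 7 (by norm_num), inv 8 (by norm_num), inv_one, mul_assoc]

/-- Each relator commutes with all nine. -/
theorem relator_commutes (hT : LocalTT D) (hV : ∀ z ∈ D, Nonempty (View D z))
    {f : ℕ → G} (h : Nine D f) : ∀ w ∈ relW, ∀ i < 9, Commute (wprod f w) (f i) := by
  intro w hw
  simp only [relW, List.mem_cons, List.not_mem_nil, or_false] at hw
  have hemb : ∀ (l : List ℕ), (∀ y ∈ l, y < 9) → ∀ i, l.getD i 0 < 9 := fun l hl i => by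
    rw [List.getD_eq_getElem?_getD]
    cases hg : l[i]? with
    | none => simp
    | some y => simpa [hg] using hl y (List.mem_of_getElem? hg)
  rcases hw with rfl | rfl | rfl
  · have key : ∀ x < 7, Commute (wprod f (rep 10 [3, 2, 1, 3, 4, 5, 3, 7, 8]))
        (f ([1, 2, 3, 4, 5, 7, 8].getD x 0)) := fun x hx => by
      have := commute_relator SubAff.setup hT h (hemb _ (by decide)) aff_base (theta_rel hT hV h)
        (SubAff.word_one (comm_aff x hx)) (by decide +kernel) hx
      rw [wprod_pick] at this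
      exact this
    obtain ⟨h0, h6⟩ := fix_tips hT hV h (k := wprod f (rep 10 [3, 2, 1, 3, 4, 5, 3, 7, 8])) (fun i hi => by
      obtain ⟨x, hx, rfl⟩ := (by decide +kernel : ∀ i ∈ [1, 2, 3, 4, 5, 7, 8],
        ∃ x < 7, [1, 2, 3, 4, 5, 7, 8].getD x 0 = i) i hi
      exact key x hx)
    intro i hi
    interval_cases i
    · exact h0
    · exact key 0 (by norm_num)
    · exact key 1 (by norm_num)
    · exact key 2 (by norm_num)
    · exact key 3 (by norm_num)
    · exact key 4 (by norm_num)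
    · exact h6
    · exact key 5 (by norm_num)
    · exact key 6 (by norm_num)
  · have key : ∀ x < 7, Commute (wprod f (rep 9 [0, 1, 2, 3, 4, 5, 7]))
        (f ([0, 1, 2, 3, 4, 5, 7].getD x 0)) := fun x hx => by
      have := commute_relator SubE7.setup hT h (hemb _ (by decide)) e7_base.1 (by simp [wprod_nil])
        (SubE7.word_one (comm_e7 x hx).1) (by decide +kernel) hx
      rw [wprod_pick] at this
      exact this
    obtain ⟨h6, h8⟩ := fix_ends hT hV h (k := wprod f (rep 9 [0, 1, 2, 3, 4, 5, 7])) (fun i hi => by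
      obtain ⟨x, hx, rfl⟩ := (by decide +kernel : ∀ i ∈ [0, 1, 2, 3, 4, 5, 7],
        ∃ x < 7, [0, 1, 2, 3, 4, 5, 7].getD x 0 = i) i hi
      exact key x hx)
    intro i hi
    interval_cases i
    · exact key 0 (by norm_num)
    · exact key 1 (by norm_num)
    · exact key 2 (by norm_num)
    · exact key 3 (by norm_num)
    · exact key 4 (by norm_num)
    · exact key 5 (by norm_num)
    · exact h6
    · exact key 6 (by norm_num)
    · exact h8
  · have key : ∀ x < 7, Commute (wprod f (rep 9 [1, 2, 3, 4, 5, 6, 7]))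
        (f ([6, 5, 4, 3, 2, 1, 7].getD x 0)) := fun x hx => by
      have := commute_relator SubE7.setup hT h (hemb _ (by decide)) e7_base.2 (by simp [wprod_nil])
        (SubE7.word_one (comm_e7 x hx).2) (by decide +kernel) hx
      rw [wprod_pick] at this
      exact this
    obtain ⟨h0, h8⟩ := fix_ends hT hV h.flip (k := wprod f (rep 9 [1, 2, 3, 4, 5, 6, 7])) (fun i hi => by
      obtain ⟨x, hx, e⟩ := (by decide +kernel : ∀ i ∈ [0, 1, 2, 3, 4, 5, 7],
        ∃ x < 7, [6, 5, 4, 3, 2, 1, 7].getD x 0 = flipIx i) i hi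
      show Commute _ (f (flipIx i))
      rw [← e]; exact key x hx)
    intro i hi
    interval_cases i
    · exact h0
    · exact key 5 (by norm_num)
    · exact key 4 (by norm_num)
    · exact key 3 (by norm_num)
    · exact key 2 (by norm_num)
    · exact key 1 (by norm_num)
    · exact key 0 (by norm_num)
    · exact key 6 (by norm_num)
    · exact h8


/-- A neighbourhood containing a point gives nine members in the shape of the diagram. -/
theorem exists_nine (hT : LocalTT D) (hV : ∀ z ∈ D, Nonempty (View D z))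
    (hne : D.Nonempty) : ∃ f : ℕ → G, Nine D f := by
  obtain ⟨z, hz⟩ := hne
  obtain ⟨W⟩ := hV z hz
  obtain ⟨p0, p1⟩ := isPt_spec (show 5 < 4096 by norm_num) (by decide +kernel)
  obtain ⟨q0, q1⟩ := isPt_spec (show 9 < 4096 by norm_num) (by decide +kernel)
  obtain ⟨a, ha, ka, hka, ea⟩ := W.surj _ p0 p1
  obtain ⟨b, hb, kb, hkb, eb⟩ := W.surj _ q0 q1
  have hab : ¬ Commute a b := fun h => by
    rw [W.hf_zero ha hb hkb eb |>.symm, ea, hf_smul_left, mul_eq_zero] at h
    exact absurd (orth_iff.2 (h.resolve_left hka)) (by decide +kernel)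
  obtain ⟨A₀⟩ := hV a ha.1
  have hzb : Commute b z := hb.2.2.symm
  have hzA : z ∈ Nb D a := ⟨hz, fun e => ha.2.1 e.symm, ha.2.2.symm⟩
  obtain ⟨g, hg, hpath⟩ := exists_path (isCommonSet hT hV ha.1 hb.1 hab A₀) (comSet_toVec A₀ hzA hzb)
  set A := A₀.comp g.symm hg.symm with hA
  have hfound : ∀ i < 6, ∃ x ∈ Nb D a, Commute b x ∧ ∃ k : K4, k ≠ 0 ∧ A.toVec x = k • vec (pp i) := by
    intro i hi
    obtain ⟨x, hx, hc, k, hk, e⟩ := hpath i hi
    refine ⟨x, hx, hc, k⁻¹, inv_ne_zero hk, ?_⟩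
    show g.symm (A₀.toVec x) = _
    rw [g.symm_apply_eq, map_smul, e, smul_smul, inv_mul_cancel₀ hk, one_smul]
  choose! x hxn hxc kx hkx ex using hfound
  obtain ⟨c0, c1⟩ := isPt_spec (show 80 < 4096 by norm_num) (by decide +kernel)
  obtain ⟨c, hc, kc, hkc, ec⟩ := A.surj _ c0 c1
  have hbc : ¬ Commute b c := fun h => by
    refine not_80 (isCommonSet hT hV ha.1 hb.1 hab A) (fun i hi => ?_) (comSet_scaled A hc h hkc ec)
    exact comSet_scaled A (hxn i hi) (hxc i hi) (hkx i hi) (ex i hi)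
  let f : ℕ → G := fun i => [a, b, c, x 3, x 2, x 1, x 0, x 4, x 5].getD i a
  have hf : ∀ i < 9, 2 ≤ i → f i ∈ Nb D a ∧ ∃ k : K4, k ≠ 0 ∧ A.toVec (f i) = k • vec (cd9 i) := by
    intro i hi h2
    interval_cases i
    · exact ⟨hc, kc, hkc, ec⟩
    · exact ⟨hxn 3 (by norm_num), _, hkx 3 (by norm_num), ex 3 (by norm_num)⟩
    · exact ⟨hxn 2 (by norm_num), _, hkx 2 (by norm_num), ex 2 (by norm_num)⟩
    · exact ⟨hxn 1 (by norm_num), _, hkx 1 (by norm_num), ex 1 (by norm_num)⟩
    · exact ⟨hxn 0 (by norm_num), _, hkx 0 (by norm_num), ex 0 (by norm_num)⟩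
    · exact ⟨hxn 4 (by norm_num), _, hkx 4 (by norm_num), ex 4 (by norm_num)⟩
    · exact ⟨hxn 5 (by norm_num), _, hkx 5 (by norm_num), ex 5 (by norm_num)⟩
  have hfb : ∀ i < 9, 3 ≤ i → Commute b (f i) := by
    intro i hi h3
    interval_cases i
    exacts [hxc 3 (by norm_num), hxc 2 (by norm_num), hxc 1 (by norm_num), hxc 0 (by norm_num),
      hxc 4 (by norm_num), hxc 5 (by norm_num)]
  have hrel : ∀ i < 9, ∀ j < 9, i < j → (Commute (f i) (f j) ↔ edgeB i j = false) ∧ f i ≠ f j := by
    intro i hi j hj hij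
    by_cases h2 : 2 ≤ i
    · obtain ⟨hi', ki, hki, ei⟩ := hf i hi h2
      obtain ⟨hj', kj, hkj, ej⟩ := hf j hj (by omega)
      have hcd : ∀ i < 9, ∀ j < 9, 2 ≤ i → i < j → Nat.beq (fN (cd9 i) (cd9 j)) 0 = !edgeB i j ∧
          indep (cd9 i) (cd9 j) = true := by decide +kernel
      obtain ⟨c1, c2⟩ := hcd i hi j hj h2 hij
      refine ⟨?_, fun e => ?_⟩
      · rw [← A.hf_zero hi' hj' hkj ej, ei, hf_smul_left, mul_eq_zero, or_iff_right hki, ← orth_iff, c1]
        simp
      · have hp := of_indep (cd9_pt i hi h2).1 c2 (ki⁻¹ * kj)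
        rw [e, ej] at ei
        rw [mul_smul, ei, smul_smul, inv_mul_cancel₀ hki, one_smul] at hp
        exact hp (add_self' _)
    · rcases (by omega : i = 0 ∨ i = 1) with rfl | rfl
      · rcases (by omega : j = 1 ∨ 2 ≤ j) with rfl | hj2
        · exact ⟨⟨fun h => absurd h hab, fun h => absurd h (by decide)⟩, fun e => hab (show Commute a b from
            (show a = b from e) ▸ Commute.refl a)⟩
        · obtain ⟨hj', -⟩ := hf j hj hj2
          exact ⟨⟨fun _ => (cd9_pt j hj hj2).2.2, fun _ => hj'.2.2⟩, fun e => hj'.2.1 e.symm⟩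
      · rcases (by omega : j = 2 ∨ 3 ≤ j) with rfl | hj3
        · exact ⟨⟨fun h => absurd h hbc, fun h => absurd h (by decide)⟩, fun e => hbc (show Commute b c from
            (show b = c from e) ▸ Commute.refl b)⟩
        · obtain ⟨hj', -⟩ := hf j hj (by omega)
          refine ⟨⟨fun _ => ?_, fun _ => hfb j hj hj3⟩, fun e => hab ?_⟩
          · have : ∀ j < 9, 3 ≤ j → edgeB 1 j = false := by decide +kernel
            exact this j hj hj3
          · rw [show b = f j from e]; exact hj'.2.2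
  refine ⟨f, fun i hi => ?_, fun i hi j hj hij => ?_, fun i hi j hj hij => ?_⟩
  · rcases (by omega : i = 0 ∨ i = 1 ∨ 2 ≤ i) with rfl | rfl | h2
    · exact ha.1
    · exact hb.1
    · exact (hf i hi h2).1.1
  · rcases Nat.lt_or_ge i j with h | h
    · exact (hrel i hi j hj h).1
    · have hs : edgeB j i = edgeB i j := by
        have : ∀ i < 9, ∀ j < 9, edgeB j i = edgeB i j := by decide +kernel
        exact this i hi j hj
      rw [← hs, ← (hrel j hj i hi (by omega)).1]
      exact ⟨fun h => h.symm, fun h => h.symm⟩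
  · rcases Nat.lt_or_ge i j with h | h
    · exact (hrel i hi j hj h).2
    · exact (hrel j hj i hi (by omega)).2.symm

/-- Elements with the property at the seven and at one further point have it at every neighbour. -/
theorem nb_all {f : ℕ → G} (hT : LocalTT D) (h : Nine D f) (P : Placed D f)
    (Pr : G → Prop) (hconj : ∀ x y, Pr x → Pr y → Pr (y * x * y⁻¹)) (h7 : ∀ i < 9, Pr (f i))
    {y : G} {n : ℕ} {k : K4} (hn : n = 1913 ∨ n = 3817) (hy : y ∈ Nb D (f 0)) (hk : k ≠ 0)
    (ey : P.view.toVec y = k • vec n) (hPy : Pr y) : ∀ x ∈ Nb D (f 0), Pr x := by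
  let S : V → Prop := fun v => ∃ x ∈ Nb D (f 0), Pr x ∧ ∃ m : K4, m ≠ 0 ∧ v = m • P.view.toVec x
  have hS : IsClosedLines S := by
    refine ⟨fun v m hm => ?_, fun v w => ?_⟩
    · rintro ⟨x, hx, hp, m', hm', rfl⟩
      exact ⟨x, hx, hp, m * m', mul_ne_zero hm hm', smul_smul m m' _⟩
    · rintro ⟨x, hx, hpx, k, hk, rfl⟩ ⟨z, hz, hpz, m, hm, rfl⟩ hne
      obtain ⟨c, hc, e⟩ := P.view.conj x hx z hz
      have hzx : z * x * z⁻¹ ∈ Nb D (f 0) := by
        have := hT.nb_conj z hx
        rwa [Fischer.conj_eq_self_of_commute hz.2.2.symm] at this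
      refine ⟨_, hzx, hconj x z hpx hpz, k * c⁻¹, mul_ne_zero hk (inv_ne_zero hc), ?_⟩
      rw [e, smul_smul (k * c⁻¹) c, inv_mul_cancel_right₀ hc, tv, smul_add, smul_smul, add_right_inj,
        smul_smul]
      congr 1
      have : ∀ m : K4, m ≠ 0 → cj m * m = 1 := by decide
      rw [hf_smul_left, hf_smul_right]
      calc k * (cj m * hf (P.view.toVec x) (P.view.toVec z)) * m =
          k * hf (P.view.toVec x) (P.view.toVec z) * (cj m * m) := by ring
        _ = k * hf (P.view.toVec x) (P.view.toVec z) := by rw [this m hm, mul_one]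
  intro x hx
  have key : S (P.view.toVec x) := by
    refine generates hS hn (fun p hp => ?_) ⟨y, hy, hPy, k⁻¹, inv_ne_zero hk, ?_⟩
      (P.view.isPoint x hx).1 (P.view.isPoint x hx).2
    · obtain ⟨i, hi, h2, rfl⟩ := (by decide +kernel : ∀ p ∈ seven, ∃ i < 9, 2 ≤ i ∧ cd9 i = p) p hp
      obtain ⟨m, hm, e⟩ := P.pos i hi h2
      exact ⟨f i, h.mem_nb (by norm_num) hi (by omega) (cd9_pt i hi h2).2.2, h7 i hi, m⁻¹, inv_ne_zero hm,
        by rw [e, smul_smul, inv_mul_cancel₀ hm, one_smul]⟩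
    · rw [ey, smul_smul, inv_mul_cancel₀ hk, one_smul]
  obtain ⟨x', hx', hp, m, hm, e⟩ := key
  rwa [P.view.inj x hx x' hx' m e]

end Cfsg.Agent.FischerM22Recog
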