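import Cfsg.Agent.Lib.FischerM22Recog.Code
import Cfsg.Agent.Lib.FischerM22Recog.Local
import Cfsg.Agent.Lib.Fi22Type.Type
import Cfsg.Agent.S5361

/-!
A group with an involution centralised by the double cover of PSU₆(2) and not weakly closed there contains a
copy of Fi22 containing that centraliser.
-/

set_option autoImplicit false
set_option maxRecDepth 100000

namespace Cfsg.Agent.FischerM22Recog

open Cfsg.Agent.CosetCert
open Cfsg.Agent.RigidGraph.He
open Cfsg.Agent.FischerPresented.U62 (hgH)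
open Cfsg.Agent.Fischer.Factor (Nb)
open Cfsg.Agent.FischerUnique

universe u

local notation "G₀" => Fi22Local.GG
local notation "FS" => CosetData.Fi22B.setup
local notation "D₀" => FischerPresented.Fi22Class.D
local notation "z₀" => FischerPresented.Fi22Class.z
local notation "cz(" d ")" => Subgroup.centralizer ({d} : Set _)

variable {G : Type u} [Group G] [Finite G] {D : Set G}

theorem mem_cj {G : Type u} [Group G] {a b : G} : b ∈ conjugatesOf a ↔ IsConj a b := Iff.rfl

/-- An element centralising the nine centralises the neighbours of the first. -/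
theorem commute_nb (hT : LocalTT D) (hV : ∀ z ∈ D, Nonempty (View D z)) {f : ℕ → G} (h : Nine D f) {k : G}
    (hk : ∀ i < 9, Commute k (f i)) : ∀ x ∈ Nb D (f 0), Commute k x := by
  obtain ⟨P⟩ := nonempty_placed hV h
  obtain ⟨hS, hp⟩ := common_path hT hV h P
  obtain ⟨n, hn, hSn⟩ : ∃ n, (n = 1913 ∨ n = 3817) ∧ comSet P.view (f 1) (vec n) := by
    by_cases h1 : comSet P.view (f 1) (vec 1913)
    · exact ⟨_, Or.inl rfl, h1⟩
    · exact ⟨_, Or.inr rfl, by
        by_contra h2
        exact h1 ((pair hS hp).2 h2)⟩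
  obtain ⟨y, hy, hby, m, hm, ey⟩ := hSn
  have hfix : Commute k y := by
    have hy' : k * y * k⁻¹ ∈ Nb D (f 0) := by
      have := hT.nb_conj k hy
      rwa [Fischer.conj_eq_self_of_commute (hk 0 (by norm_num))] at this
    have ey' : P.view.toVec y = m⁻¹ • vec n := by rw [ey, smul_smul, inv_mul_cancel₀ hm, one_smul]
    have hinc : ∀ i < 9, 2 ≤ i → (Commute (k * y * k⁻¹) (f i) ↔ Nat.beq (fN 1913 (cd9 i)) 0 = true) ∧
        k * y * k⁻¹ ≠ f i := by
      intro i hi h2
      have hfi := h.mem_nb (i := 0) (by norm_num) hi (by omega) (cd9_pt i hi h2).2.2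
      obtain ⟨c, hc, ec⟩ := P.pos i hi h2
      have e1 := (P.view.hf_zero hy hfi hc ec).symm
      rw [ey', hf_smul_left, mul_eq_zero, or_iff_right (inv_ne_zero hm), ← orth_iff] at e1
      have he : Nat.beq (fN n (cd9 i)) 0 = Nat.beq (fN 1913 (cd9 i)) 0 := by
        rcases hn with rfl | rfl
        · rfl
        · obtain h7 := (by decide +kernel : ∀ i < 9, 2 ≤ i → cd9 i ∈ seven) i hi h2
          exact (sev_pair _ h7).symm
      refine ⟨(conj_rel (hk i hi)).1.trans (e1.trans (by rw [he])), fun e => ?_⟩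
      have hyi := (conj_rel (hk i hi)).2.1 e
      rw [hyi, ec] at ey'
      have : ∀ n, (n = 1913 ∨ n = 3817) → ∀ i < 9, 2 ≤ i → n < 4096 ∧ indep n (cd9 i) = true := by
        rintro n (rfl | rfl) <;> decide +kernel
      obtain ⟨nl, ni⟩ := this n hn i hi h2
      refine of_indep nl ni (m * c) ?_
      rw [mul_smul, ey', smul_smul, mul_inv_cancel₀ hm, one_smul]
      exact add_self' _
    let at_ : ℕ → G := fun p =>
      if p = 80 then f 2 else if p = 144 then f 3 else if p = 85 then f 4 else if p = 9 then f 5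
      else if p = 5 then f 6 else if p = 1360 then f 7 else f 8
    have hat : ∀ p ∈ seven, ∃ i < 9, 2 ≤ i ∧ cd9 i = p ∧ at_ p = f i := by
      intro p hp
      simp only [seven, List.mem_cons, List.not_mem_nil, or_false] at hp
      rcases hp with rfl | rfl | rfl | rfl | rfl | rfl | rfl
      · exact ⟨2, by norm_num, le_rfl, rfl, rfl⟩
      · exact ⟨3, by norm_num, by norm_num, rfl, rfl⟩
      · exact ⟨4, by norm_num, by norm_num, rfl, rfl⟩
      · exact ⟨5, by norm_num, by norm_num, rfl, rfl⟩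
      · exact ⟨6, by norm_num, by norm_num, rfl, rfl⟩
      · exact ⟨7, by norm_num, by norm_num, rfl, rfl⟩
      · exact ⟨8, by norm_num, by norm_num, rfl, rfl⟩
    obtain ⟨n', hn', m', hm', e'⟩ := P.view.locate hy' uPair (at_ := at_)
      (fun p hp => by
        have hp7 : p ∈ seven := (List.mem_append.1 hp).elim List.mem_of_mem_filter List.mem_of_mem_filter
        obtain ⟨i, hi, h2, rfl, he⟩ := hat p hp7
        rw [he]
        exact ⟨h.mem_nb (by norm_num) hi (by omega) (cd9_pt i hi h2).2.2, P.pos i hi h2⟩)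
      (fun p hp => by
        obtain ⟨h7, hb⟩ := List.mem_filter.1 hp
        obtain ⟨i, hi, h2, rfl, he⟩ := hat p h7
        rw [he, (hinc i hi h2).1]
        intro e
        rw [e] at hb
        exact Bool.noConfusion hb)
      (fun p hp => by
        obtain ⟨h7, hb⟩ := List.mem_filter.1 hp
        obtain ⟨i, hi, h2, rfl, he⟩ := hat p h7
        rw [he]
        exact ⟨(hinc i hi h2).1.2 hb, (hinc i hi h2).2⟩)
    simp only [List.mem_cons, List.not_mem_nil, or_false] at hn'
    have hmem' : comSet P.view (f 1) (vec n') := comSet_scaled P.view hy'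
      ((conj_rel (x := y) (hk 1 (by norm_num))).1.2 hby.symm).symm hm' e'
    have hmem : comSet P.view (f 1) (vec n) := comSet_scaled P.view hy hby (inv_ne_zero hm) ey'
    have : n' = n := by
      rcases hn' with rfl | rfl <;> rcases hn with rfl | rfl <;> first | rfl | skip
      · exact absurd hmem ((pair hS hp).1 hmem')
      · exact absurd hmem' ((pair hS hp).1 hmem)
    subst this
    refine commute_of_conj_eq (P.view.inj _ hy' _ hy (m' * m) ?_)
    rw [e', ey', smul_smul, mul_assoc, mul_inv_cancel₀ hm, mul_one]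
  refine nb_all hT h P (Commute k) (fun x z hx hz => (hz.mul_right hx).mul_right hz.inv_right)
      (fun i hi => hk i hi) hn hy (inv_ne_zero hm) ?_ hfix
  rw [ey, smul_smul, inv_mul_cancel₀ hm, one_smul]

/-- Labellings in presented Fi22. -/
theorem view_presented : Nonempty (View D₀ z₀) := by
  have hE := FischerPresented.Fi22Class.isClass
  have ht := Fi22Type.type_m22 (MulEquiv.refl G₀) (D := D₀) (by simp)
  have := FischerPresented.Fi22.order_facts.1
  haveI hs := FischerPresented.Fi22.isSimpleGroup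
  have hsimp : IsSimpleGroup ↥(commutator G₀) := by
    rcases (inferInstance : (commutator G₀).Normal).eq_bot_or_eq_top with h | h
    · exfalso
      refine Fi22Local.PairSix.not_commute (commutatorElement_eq_one_iff_commute.1 ?_)
      rw [← Subgroup.mem_bot, ← h]
      exact Subgroup.commutator_mem_commutator (Subgroup.mem_top _) (Subgroup.mem_top _)
    · rw [h]
      exact (MulEquiv.isSimpleGroup_congr Subgroup.topEquiv).2 hs
  obtain ⟨-, f, hf, -, p, hp, -⟩ := Fischer.Factor.m22_facts ht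
  have hprim := (S5361.result hE ht.1 ⟨f, hf, p, hp.1, Ne.symm hp.2.1, hp.2.2⟩).1.1 hsimp
  exact views (Fischer.TClass.toGroup hE) hprim ht _ z_mem

variable {d : G} (φ : ↥(cz(d)) ≃* FischerPresented.Fi22.H)

/-- The conjugates of the involution in the centraliser are the transpositions there. -/
def Fused : Prop := ∀ (x : G) (hx : x ∈ cz(d)),
  IsConj d x ↔ x = d ∨ ((φ ⟨x, hx⟩ : FischerPresented.Fi22.H) : G₀) ∈ Nb D₀ z₀

variable (hφ : U62Cover.Centred φ) (hF : Fused φ) (hd : d * d = 1)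

theorem mem_cz_nb {x : G} (hx : x ∈ Nb (conjugatesOf d) d) : x ∈ cz(d) :=
  Subgroup.mem_centralizer_singleton_iff.2 hx.2.2.symm.eq

theorem phi_d (hφ : U62Cover.Centred φ) (h : d ∈ cz(d)) :
    ((φ ⟨d, h⟩ : FischerPresented.Fi22.H) : G₀) = z₀ := by
  have e : φ.symm (hgH 0) = ⟨d, h⟩ := Subtype.ext hφ
  rw [← e, φ.apply_symm_apply]
  exact z_eq

include hφ hF

theorem phi_nb {x : G} (hx : x ∈ Nb (conjugatesOf d) d) :
    ((φ ⟨x, mem_cz_nb hx⟩ : FischerPresented.Fi22.H) : G₀) ∈ Nb D₀ z₀ :=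
  ((hF x (mem_cz_nb hx)).1 (mem_cj.1 hx.1)).resolve_left hx.2.1

theorem exists_nb {y : G₀} (hy : y ∈ Nb D₀ z₀) :
    ∃ x : G, ∃ hx : x ∈ Nb (conjugatesOf d) d,
      ((φ ⟨x, mem_cz_nb hx⟩ : FischerPresented.Fi22.H) : G₀) = y := by
  have hyH : y ∈ FischerPresented.Fi22.H := nb_le_H (Subgroup.subset_closure hy)
  have hxC : ((φ.symm ⟨y, hyH⟩ : ↥(cz(d))) : G) ∈ cz(d) := (φ.symm ⟨y, hyH⟩).2
  have he : ((φ ⟨_, hxC⟩ : FischerPresented.Fi22.H) : G₀) = y := by
    rw [Subtype.coe_eta, φ.apply_symm_apply]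
  refine ⟨_, ⟨mem_cj.2 ((hF _ hxC).2 (Or.inr (by rw [he]; exact hy))), fun e => ?_,
    (Subgroup.mem_centralizer_singleton_iff.1 hxC).symm⟩, he⟩
  refine hy.2.1 ?_
  rw [← he, ← phi_d φ hφ (Subgroup.mem_centralizer_singleton_iff.2 rfl)]
  exact congrArg (fun t => ((φ t : FischerPresented.Fi22.H) : G₀)) (Subtype.ext e)

include hd

theorem localTT : LocalTT (conjugatesOf d) where
  invol x hx := by
    obtain ⟨g, rfl⟩ := isConj_iff.1 (mem_cj.1 hx)
    rw [show g * d * g⁻¹ * (g * d * g⁻¹) = g * (d * d) * g⁻¹ by group, hd]; group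
  conj g x hx := mem_cj.2 ((mem_cj.1 hx).trans (isConj_iff.2 ⟨g, rfl⟩))
  cube w hw x hx y hy hxy := by
    obtain ⟨g, rfl⟩ := isConj_iff.1 (mem_cj.1 hw)
    have back : ∀ {u : G}, u ∈ Nb (conjugatesOf d) (g * d * g⁻¹) → g⁻¹ * u * g ∈ Nb (conjugatesOf d) d := by
      intro u hu
      refine ⟨mem_cj.2 ((mem_cj.1 hu.1).trans
        (isConj_iff.2 ⟨g⁻¹, by rw [inv_inv]⟩)), fun e => hu.2.1 (by rw [← e]; group), ?_⟩
      have := (Fischer.commute_conj_iff g d (g⁻¹ * u * g)).1
      refine this ?_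
      rw [show g * (g⁻¹ * u * g) * g⁻¹ = u by group]
      exact hu.2.2
    have hx' := back hx
    have hy' := back hy
    have key := Fischer.TSet.cube FischerPresented.Fi22Class.isClass.1 (phi_nb φ hφ hF hx').1
      (phi_nb φ hφ hF hy').1 fun hc => hxy ?_
    · rw [← Subgroup.coe_mul, ← map_mul, ← Subgroup.coe_pow, ← map_pow, OneMemClass.coe_eq_one,
        EmbeddingLike.map_eq_one_iff] at key
      have := congrArg Subtype.val key
      simp only [Subgroup.coe_pow, Subgroup.coe_mul, Subgroup.coe_one] at this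
      rw [show x * y = g * ((g⁻¹ * x * g) * (g⁻¹ * y * g)) * g⁻¹ by group, conj_pow, this]
      group
    · have h1 : (⟨_, mem_cz_nb hx'⟩ : ↥(cz(d))) * ⟨_, mem_cz_nb hy'⟩ = ⟨_, mem_cz_nb hy'⟩ * ⟨_, mem_cz_nb hx'⟩ :=
        φ.injective (by rw [map_mul, map_mul]; exact Subtype.ext hc.eq)
      have := (Fischer.commute_conj_iff g (g⁻¹ * x * g) (g⁻¹ * y * g)).2 (congrArg Subtype.val h1)
      rwa [show g * (g⁻¹ * x * g) * g⁻¹ = x by group, show g * (g⁻¹ * y * g) * g⁻¹ = y by group] at this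

theorem local_views : ∀ a ∈ conjugatesOf d, Nonempty (View (conjugatesOf d) a) := by
  classical
  obtain ⟨W⟩ := view_presented
  let f : G → G₀ := fun x => if h : x ∈ cz(d) then ((φ ⟨x, h⟩ : FischerPresented.Fi22.H) : G₀) else 1
  have hf : ∀ x (hx : x ∈ Nb (conjugatesOf d) d), f x = ((φ ⟨x, mem_cz_nb hx⟩ : FischerPresented.Fi22.H) : G₀) :=
    fun x hx => dif_pos (mem_cz_nb hx)
  have hfn : ∀ x ∈ Nb (conjugatesOf d) d, f x ∈ Nb D₀ z₀ := fun x hx => hf x hx ▸ phi_nb φ hφ hF hx
  intro a ha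
  obtain ⟨g, rfl⟩ := isConj_iff.1 (mem_cj.1 ha)
  have hT := localTT φ hφ hF hd
  have hback : ∀ y ∈ Nb (conjugatesOf d) (g * d * g⁻¹), g⁻¹ * y * g ∈ Nb (conjugatesOf d) d := fun y hy => by
    have := hT.nb_conj g⁻¹ hy
    rwa [inv_inv, show g⁻¹ * (g * d * g⁻¹) * g = d by group] at this
  have hcom : ∀ x ∈ Nb (conjugatesOf d) d, ∀ y ∈ Nb (conjugatesOf d) d, Commute x y ↔ Commute (f x) (f y) :=
    fun x hx y hy => by
      rw [hf x hx, hf y hy]
      constructor
      · intro h
        exact congrArg Subtype.val (((show Commute (⟨x, mem_cz_nb hx⟩ : ↥(cz(d))) ⟨y, mem_cz_nb hy⟩ from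
          Subtype.ext h.eq).map φ).eq)
      · intro h
        exact congrArg Subtype.val (φ.injective (by rw [map_mul, map_mul]; exact Subtype.ext h.eq) :
          (⟨x, mem_cz_nb hx⟩ : ↥(cz(d))) * ⟨y, mem_cz_nb hy⟩ = ⟨y, mem_cz_nb hy⟩ * ⟨x, mem_cz_nb hx⟩)
  refine ⟨⟨fun x => W.toVec (f (g⁻¹ * x * g)), fun x hx => W.isPoint _ (hfn _ (hback x hx)), fun x hx y hy => ?_,
    fun x hx y hy k h => ?_, fun v h0 hv => ?_, fun x hx y hy => ?_⟩⟩
  · rw [← W.comm _ (hfn _ (hback x hx)) _ (hfn _ (hback y hy)), ← hcom _ (hback x hx) _ (hback y hy)]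
    have h1 := Fischer.commute_conj_iff g (g⁻¹ * x * g) (g⁻¹ * y * g)
    rw [show g * (g⁻¹ * x * g) * g⁻¹ = x by group, show g * (g⁻¹ * y * g) * g⁻¹ = y by group] at h1
    exact h1
  · have := W.inj _ (hfn _ (hback x hx)) _ (hfn _ (hback y hy)) k h
    rw [hf _ (hback x hx), hf _ (hback y hy)] at this
    have := congrArg Subtype.val (φ.injective (Subtype.ext this))
    simpa using this
  · obtain ⟨y, hy, k, hk, h⟩ := W.surj v h0 hv
    obtain ⟨x, hx, rfl⟩ := exists_nb φ hφ hF hy
    refine ⟨g * x * g⁻¹, hT.nb_conj g hx, k, hk, ?_⟩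
    show W.toVec (f (g⁻¹ * (g * x * g⁻¹) * g)) = _
    rw [show g⁻¹ * (g * x * g⁻¹) * g = x by group, hf x hx, h]
  · obtain ⟨k, hk, h⟩ := W.conj _ (hfn _ (hback x hx)) _ (hfn _ (hback y hy))
    refine ⟨k, hk, ?_⟩
    have hxy : g⁻¹ * y * g * (g⁻¹ * x * g) * (g⁻¹ * y * g)⁻¹ ∈ Nb (conjugatesOf d) d := by
      have := hT.nb_conj (g⁻¹ * y * g) (hback x hx)
      rwa [Fischer.conj_eq_self_of_commute (hback y hy).2.2.symm] at this
    show W.toVec (f (g⁻¹ * (y * x * y⁻¹) * g)) = _
    rw [← h, show g⁻¹ * (y * x * y⁻¹) * g = g⁻¹ * y * g * (g⁻¹ * x * g) * (g⁻¹ * y * g)⁻¹ by group,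
      hf _ hxy, hf _ (hback x hx), hf _ (hback y hy), ← Subgroup.coe_inv, ← Subgroup.coe_mul, ← Subgroup.coe_mul,
      ← map_inv, ← map_mul, ← map_mul]
    rfl

omit hφ hF hd in
/-- The facts used about the copy of Fi22. -/
structure Emb (G : Type u) [Group G] (d : G) where
  ψ : G₀ →* G
  inj : Function.Injective ψ
  map_z : ψ z₀ = d
  le_range : cz(d) ≤ ψ.range
  fus : ∀ x ∈ cz(d), IsConj d x → x ∈ ψ '' D₀

/-- The copy of Fi22. -/
theorem exists_emb (hd1 : d ≠ 1) : Nonempty (Emb G d) := by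
  have hT := localTT φ hφ hF hd
  have hV := local_views φ hφ hF hd
  have hdD : d ∈ conjugatesOf d := mem_conjugatesOf_self
  obtain ⟨f₁, h₁⟩ := exists_nine hT hV ⟨d, hdD⟩
  obtain ⟨g, hg⟩ := isConj_iff.1 (mem_cj.1 (h₁.mem 0 (by norm_num)))
  let f : ℕ → G := fun i => if i < 9 then g⁻¹ * f₁ i * g else d
  have hfi : ∀ i < 9, f i = g⁻¹ * f₁ i * g := fun i hi => if_pos hi
  have hf0 : f 0 = d := by rw [hfi 0 (by norm_num), ← hg]; group
  have h : Nine (conjugatesOf d) f := by
    refine ⟨fun i hi => ?_, fun i hi j hj hij => ?_, fun i hi j hj hij e => ?_⟩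
    · rw [hfi i hi]
      simpa using hT.conj g⁻¹ _ (h₁.mem i hi)
    · rw [hfi i hi, hfi j hj, ← h₁.rel i hi j hj hij]
      have := Fischer.commute_conj_iff g⁻¹ (f₁ i) (f₁ j)
      rwa [inv_inv] at this
    · rw [hfi i hi, hfi j hj] at e
      exact h₁.ne i hi j hj hij (mul_left_cancel (mul_right_cancel e))
  have hinv : ∀ i, f i * f i = 1 := fun i => by
    by_cases hi : i < 9
    · exact hT.sq (h.mem i hi)
    · show (if i < 9 then g⁻¹ * f₁ i * g else d) * (if i < 9 then g⁻¹ * f₁ i * g else d) = 1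
      rw [if_neg hi]; exact hd
  have hcl : ∀ k : G, (∀ i < 9, Commute k (f i)) → k = 1 := by
    intro k hk
    have hnb := commute_nb hT hV h hk
    rw [hf0] at hnb
    have hkC : k ∈ cz(d) := Subgroup.mem_centralizer_singleton_iff.2 (hf0 ▸ hk 0 (by norm_num)).eq
    have hc : φ ⟨k, hkC⟩ ∈ Subgroup.center FischerPresented.Fi22.H := by
      refine Subgroup.mem_center_iff.2 fun y => Subtype.ext ?_
      have hyN : (y : G₀) ∈ Subgroup.closure (Nb D₀ z₀) := by rw [closure_nb_z]; exact y.2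
      suffices hh : Commute ((φ ⟨k, hkC⟩ : FischerPresented.Fi22.H) : G₀) (y : G₀) from hh.eq.symm
      generalize (y : G₀) = w at hyN
      induction hyN using Subgroup.closure_induction with
      | mem x hx =>
        obtain ⟨u, hu, rfl⟩ := exists_nb φ hφ hF hx
        exact ((show Commute (⟨k, hkC⟩ : ↥(cz(d))) ⟨u, mem_cz_nb hu⟩ from
          Subtype.ext (hnb u hu).eq).map φ).map FischerPresented.Fi22.H.subtype
      | one => exact Commute.one_right _
      | mul a b _ _ ha hb => exact ha.mul_right hb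
      | inv a _ ha => exact ha.inv_right
    rw [FischerPresented.U62.center_H] at hc
    rcases FischerPresented.U62.mem_ker hc with e | e
    · simpa using congrArg Subtype.val (φ.injective (e.trans (map_one φ).symm))
    · exfalso
      have hkd : k = d := by
        have := congrArg (fun t => ((φ.symm t : ↥(cz(d))) : G)) e
        simp only [φ.symm_apply_apply] at this
        exact this.trans hφ
      subst hkd
      have h01 := (h.rel 0 (by norm_num) 1 (by norm_num) (by norm_num)).1 (hf0.symm ▸ hk 1 (by norm_num))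
      exact absurd h01 (by decide)
  have hb : ∀ w ∈ CosetData.Fi22B.base, wprod f w = 1 := by
    intro w hw
    have := List.all_eq_true.1 base_ok w hw
    simp only [Bool.or_eq_true, List.any_eq_true, Bool.and_eq_true, List.mem_range,
      Bool.not_eq_true'] at this
    rcases this with ⟨u, hu, e⟩ | ⟨i, hi, j, hj, hij, e⟩
    · rw [eq_of_wordEq e]
      exact hcl _ (relator_commutes hT hV h u hu)
    · rw [eq_of_wordEq e, wprod_rep, wprod_cons, wprod_cons, wprod_nil, mul_one]
      have hij' : i ≠ j := fun e => by rw [e] at hij; simp at hij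
      cases he : edgeB i j with
      | false =>
        rw [cond_false]
        exact (Fischer.commute_iff_sq_eq_one (hinv i) (hinv j)).1 ((h.rel i hi j hj hij').2 he)
      | true =>
        rw [cond_true]
        exact nine_cube hT h hi hj hij' he
  obtain ⟨ψ, hψ⟩ := exists_hom_fin FS f hinv hb
  have hψ' : ∀ i < 9, ψ (Setup.gen FS i) = f i := hψ
  have hz : ψ z₀ = d := (hψ' 0 (by norm_num)).trans hf0
  have := FischerPresented.Fi22.isSimpleGroup
  have hinj : Function.Injective ψ := by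
    rw [← MonoidHom.ker_eq_bot_iff]
    refine (MonoidHom.normal_ker ψ).eq_bot_or_eq_top.resolve_right fun htop => hd1 ?_
    rw [← hz, MonoidHom.ker_eq_top_iff.1 htop]; rfl
  have hnb : ψ '' Nb D₀ z₀ = Nb (conjugatesOf d) d := by
    obtain ⟨A⟩ := hV d hdD
    obtain ⟨hfin, hle⟩ := A.card_nb
    refine Set.eq_of_subset_of_ncard_le ?_ ?_ hfin
    · rintro _ ⟨x, ⟨hx, hne, hc⟩, rfl⟩
      obtain ⟨c, rfl⟩ := FischerPresented.Fi22Class.mem_D.1 hx
      refine ⟨?_, fun e => hne (hinj (e.trans hz.symm)), hz ▸ hc.map ψ⟩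
      rw [map_mul, map_mul, map_inv, hz]
      exact mem_cj.2 (isConj_iff.2 ⟨ψ c, rfl⟩)
    · rw [Set.ncard_image_of_injective _ hinj]
      exact hle.trans card_nb_presented
  refine ⟨⟨ψ, hinj, hz, fun k hk => ?_, fun x hx hc => ?_⟩⟩
  · have hkN : ((φ ⟨k, hk⟩ : FischerPresented.Fi22.H) : G₀) ∈ Subgroup.closure (Nb D₀ z₀) := by
      rw [closure_nb_z]; exact (φ ⟨k, hk⟩).2
    have key : ∀ w ∈ Subgroup.closure (Nb D₀ z₀), ∀ (e : w ∈ FischerPresented.Fi22.H),
        ((φ.symm ⟨w, e⟩ : ↥(cz(d))) : G) ∈ ψ.range := by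
      intro w hw
      induction hw using Subgroup.closure_induction with
      | mem x hx =>
        intro e
        obtain ⟨u, hu, rfl⟩ := exists_nb φ hφ hF hx
        rw [Subtype.coe_eta, φ.symm_apply_apply]
        obtain ⟨v, -, rfl⟩ := hnb.ge hu
        exact ⟨v, rfl⟩
      | one =>
        intro e
        rw [show (⟨1, e⟩ : FischerPresented.Fi22.H) = 1 from rfl, map_one]
        exact one_mem _
      | mul a b ha hb iha ihb =>
        intro e
        have ea : a ∈ FischerPresented.Fi22.H := closure_nb_z ▸ ha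
        have eb : b ∈ FischerPresented.Fi22.H := closure_nb_z ▸ hb
        rw [show (⟨a * b, e⟩ : FischerPresented.Fi22.H) = ⟨a, ea⟩ * ⟨b, eb⟩ from rfl, map_mul]
        exact mul_mem (iha ea) (ihb eb)
      | inv a ha iha =>
        intro e
        have ea : a ∈ FischerPresented.Fi22.H := closure_nb_z ▸ ha
        rw [show (⟨a⁻¹, e⟩ : FischerPresented.Fi22.H) = ⟨a, ea⟩⁻¹ from rfl, map_inv]
        exact inv_mem (iha ea)
    have := key _ hkN (φ ⟨k, hk⟩).2
    rwa [Subtype.coe_eta, φ.symm_apply_apply] at this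
  · by_cases hxd : x = d
    · exact ⟨z₀, z_mem, hz.trans hxd.symm⟩
    · obtain ⟨v, hv, e⟩ := hnb.ge (show x ∈ Nb (conjugatesOf d) d from
        ⟨mem_cj.2 hc, hxd, (Subgroup.mem_centralizer_singleton_iff.1 hx).symm⟩)
      exact ⟨v, hv.1, e⟩

end Cfsg.Agent.FischerM22Recog
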